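import Cfsg.Agent.H388.EvenFix
import Cfsg.Agent.Mrg.Omega.ML.LieRow.Lie
import Cfsg.Agent.FixBN.ReeSplit
import Cfsg.Agent.Nodes.RGDLie
import Cfsg.Agent.CpAut.Alt
import Cfsg.Agent.OddHalf.Known
import Cfsg.Agent.S0205
import Cfsg.Agent.S0252
import Cfsg.Agent.S0254
import Cfsg.Agent.BpSpor.Inn.Fi24
import Cfsg.Agent.BpSpor.Inn.M
import Cfsg.Agent.BpSpor.Inn.Suz
import Cfsg.Agent.BpSpor.Row.B
import Cfsg.Agent.BpSpor.Row.Co1
import Cfsg.Agent.BpSpor.Row.Co3
import Cfsg.Agent.BpSpor.Row.Fi23
import Cfsg.Agent.BpSpor.Row.HS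
import Cfsg.Agent.BpSpor.Row.He
import Cfsg.Agent.BpSpor.Row.J2
import Cfsg.Agent.BpSpor.Row.Ru
import Cfsg.Agent.BpSpor.Row.Tits
import Cfsg.Agent.BpTab.Final

/-!
# Automorphisms of odd prime order `r`, `r` prime to `|K|`, of a known simple group fix an involution

`hasSplit_of_lie` : a simple group of Lie type in characteristic `p` has a split (B,N)-pair in characteristic `p`;
`oddInn_sporadic` : automorphisms of odd prime order of the sporadic groups are inner;
`exists_involution` : `K` finite simple, not abelian, known; `x ^ r = 1` in `Aut K`, `r` an odd prime not dividing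
`|K|`: `x` fixes an involution of `K`.
-/

set_option autoImplicit false

namespace Cfsg.Agent.H388.EvenFixAll

open Subgroup Cfsg Cfsg.Agent.CpAut Cfsg.Agent.BpSpor.Inn
open Cfsg.Agent.FixBN (HasSplit)

universe u

/-- every simple group of Lie type has a split (B,N)-pair -/
theorem hasSplit_of_lie {p : ℕ} (hp : p.Prime) {K : Type*} [Group K] [IsSimpleGroup K] (h : IsLieTypeChar p K) :
    HasSplit p K := by
  rcases Nodes.RGDLie.hasRGD_of_lie h with h1 | ⟨rfl, -⟩ | ⟨rfl, -⟩ | ⟨rfl, h1⟩
  · exact Omega.ML.LieRow.hasSplit_of_rgd hp h1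
  · exact Omega.ML.LieRow.hasSplit_of_lie h
  · exact Omega.ML.LieRow.hasSplit_of_lie h
  · exact FixBN.ReeSplit.hasSplit_of_isoRee h1

/-- automorphisms of odd prime order of the sporadic groups are inner -/
theorem oddInn_sporadic {K : Type*} [Group K] (h : IsSporadicGroup K) : OddInn K := by
  rcases h with h | h | h | h | h | h | h | h | h | h | h | h | h | h | h | h | h | h |
      h | h | h | h | h | h | h | h
  · exact m11 h
  · exact m12 h
  · exact m22 h
  · exact m23 h
  · exact m24 h
  · exact j1 h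
  · exact j2 h
  · exact j3 h
  · exact j4 h
  · exact co1 h
  · exact co2 h
  · exact co3 h
  · exact mcl h
  · exact hs h
  · exact suz h
  · exact he h
  · exact ru h
  · exact on h
  · exact ly h
  · exact fi22 h
  · exact fi23 h
  · exact fi24 h
  · exact hn h
  · exact th h
  · exact b h
  · exact m h

/-- a nonabelian simple group has even order -/
theorem even_card {K : Type*} [Group K] [Finite K] [IsSimpleGroup K] (hna : ¬ IsMulCommutative K) :
    Even (Nat.card K) := by
  by_contra h
  have h1 : Group.IsSolvable K := S0205.result (Nat.not_even_iff_odd.1 h)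
  exact hna (isMulCommutative_iff.2 fun a b => ((IsSimpleGroup.comm_iff_isSolvable (G := K)).2 h1) a b)

theorem exists_orderOf_two {K : Type*} [Group K] [Finite K] [IsSimpleGroup K] (hna : ¬ IsMulCommutative K) :
    ∃ g : K, orderOf g = 2 := by
  have : Fact (Nat.Prime 2) := ⟨Nat.prime_two⟩
  exact exists_prime_orderOf_dvd_card' 2 (even_card hna).two_dvd

/-- automorphisms of order `r` all inner and `r ∤ |K|`: then there are none -/
theorem eq_one_of_inner {K : Type*} [Group K] [Finite K] [IsSimpleGroup K] (hna : ¬ IsMulCommutative K) {r : ℕ}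
    (hr : r.Prime) (hcop : ¬ r ∣ Nat.card K) (hi : AutInner r K) {x : MulAut K} (hx : x ^ r = 1) : x = 1 := by
  by_contra hx1
  have : Fact r.Prime := ⟨hr⟩
  have h1 : orderOf x = r := orderOf_eq_prime hx hx1
  obtain ⟨g, rfl⟩ := hi x h1
  have hc : center K = ⊥ := by
    rcases IsSimpleGroup.eq_bot_or_eq_top_of_normal (center K) inferInstance with h | h
    · exact h
    · exact absurd (isMulCommutative_iff.2 fun a b => by
        have : b ∈ center K := by rw [h]; trivial
        exact mem_center_iff.1 this a) hna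
  have h2 : g ^ r = 1 := by
    have h3 : g ^ r ∈ center K := by
      rw [mem_center_iff]
      intro k
      have h4 : (MulAut.conj (g ^ r)) k = k := by rw [map_pow, hx]; rfl
      rw [MulAut.conj_apply] at h4
      calc k * g ^ r = (g ^ r * k * (g ^ r)⁻¹) * g ^ r := by rw [h4]
        _ = g ^ r * k := by group
    rwa [hc, mem_bot] at h3
  have h3 : orderOf g ∣ r := orderOf_dvd_of_pow_eq_one h2
  rcases (Nat.dvd_prime hr).1 h3 with h4 | h4
  · rw [orderOf_eq_one_iff] at h4
    exact hx1 (by rw [h4, map_one])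
  · exact hcop (h4 ▸ orderOf_dvd_natCard g)

/-- **Automorphisms of coprime odd prime order fix involutions.** -/
theorem exists_involution {K : Type*} [Group K] [Finite K] [IsSimpleGroup K] (hna : ¬ IsMulCommutative K)
    (hK : IsKnownSimple' K) {r : ℕ} (hr : r.Prime) (hr2 : r ≠ 2) (hcop : ¬ r ∣ Nat.card K) (x : MulAut K)
    (hx : x ^ r = 1) : ∃ g : K, orderOf g = 2 ∧ x g = g := by
  have : Fact r.Prime := ⟨hr⟩
  have key : AutInner r K → ∃ g : K, orderOf g = 2 ∧ x g = g := by
    intro hi
    obtain ⟨g, hg⟩ := exists_orderOf_two hna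
    exact ⟨g, hg, by rw [eq_one_of_inner hna hr hcop hi hx]; rfl⟩
  have lie : ∀ p : ℕ, p.Prime → IsLieTypeChar p K → ∃ g : K, orderOf g = 2 ∧ x g = g := by
    intro p hp h
    have : Fact p.Prime := ⟨hp⟩
    exact EvenFix.exists_involution_of_hasSplit (hasSplit_of_lie hp h) hcop x hx
  rcases OddHalf.Known.classify hna hK with h | ⟨p, hp, -, h⟩ | (h | h) | h
  · obtain ⟨n, hn, ⟨e⟩⟩ := h
    rcases (show n = 5 ∨ n = 6 ∨ 7 ≤ n by omega) with rfl | rfl | h7
    · let _ : Fintype (GaloisField 2 2) := Fintype.ofFinite _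
      have hF : Fintype.card (GaloisField 2 2) = 4 := by
        rw [Fintype.card_eq_nat_card, GaloisField.card 2 2 (by norm_num)]; norm_num
      obtain ⟨f⟩ := S0252.result hF
      exact lie 2 Nat.prime_two (Or.inl ⟨GaloisField 2 2, inferInstance, inferInstance, inferInstance, 2, le_rfl,
        fun _ => hF.ge, ⟨e.trans f.symm⟩⟩)
    · let _ : Fintype (GaloisField 3 2) := Fintype.ofFinite _
      have hF : Fintype.card (GaloisField 3 2) = 9 := by
        rw [Fintype.card_eq_nat_card, GaloisField.card 3 2 (by norm_num)]; norm_num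
      obtain ⟨f⟩ := S0254.result hF
      exact lie 3 Nat.prime_three (Or.inl ⟨GaloisField 3 2, inferInstance, inferInstance, inferInstance, 2, le_rfl,
        fun _ => by rw [hF]; norm_num, ⟨e.trans f.symm⟩⟩)
    · exact key ((autInner_alt h7 hr hr2).congr e.symm)
  · exact lie p hp h
  · exact lie 2 Nat.prime_two h
  · exact key (tits h r hr hr2)
  · exact key (oddInn_sporadic h r hr hr2)

end Cfsg.Agent.H388.EvenFixAll
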