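import Mathlib
import Cfsg.Agent.S0016

/-!
# 2-groups with one involution have 2-generated sections

* `TwoGen` : generated by two elements; `TwoGen.map`; `TwoGen.card_le` : an elementary abelian 2-generated group has
  order at most 4;
* `twoGen_of_unique` : a finite 2-group in which commuting involutions are equal is 2-generated;
* `false_of_four` : `f : N → X` onto, commuting involutions of `N` are equal, then `X` does not contain commuting
  Klein four-groups `E₁`, `E₂` with `E₁ ∩ E₂ = 1`.
-/

set_option autoImplicit false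

namespace Cfsg.Agent.H388.TwoGen

open Subgroup

universe u v

/-- generated by two elements -/
def TwoGen (G : Type*) [Group G] : Prop := ∃ a b : G, closure ({a, b} : Set G) = ⊤

theorem TwoGen.map {G : Type u} {H : Type v} [Group G] [Group H] (h : TwoGen G) (f : G →* H)
    (hf : Function.Surjective f) : TwoGen H := by
  obtain ⟨a, b, hab⟩ := h
  refine ⟨f a, f b, ?_⟩
  have h1 : (closure ({a, b} : Set G)).map f = closure ({f a, f b} : Set H) := by
    rw [MonoidHom.map_closure, Set.image_pair]
  rw [← h1, hab, Subgroup.map_top_of_surjective f hf]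

theorem TwoGen.card_le {G : Type u} [Group G] [Finite G] (h : TwoGen G) (h2 : ∀ g : G, g * g = 1) :
    Nat.card G ≤ 4 := by
  let _ : CommGroup G :=
    { (inferInstance : Group G) with
      mul_comm := fun a b => by
        have h1 : ∀ g : G, g⁻¹ = g := fun g => inv_eq_of_mul_eq_one_left (h2 g)
        have h3 := h2 (a * b)
        calc a * b = (a * b)⁻¹ := (h1 _).symm
          _ = b⁻¹ * a⁻¹ := mul_inv_rev a b
          _ = b * a := by rw [h1, h1] }
  obtain ⟨a, b, hab⟩ := h
  have hz : ∀ (g : G) (m : ℤ), ∃ i : Fin 2, g ^ m = g ^ (i : ℕ) := by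
    intro g m
    rcases Int.even_or_odd m with ⟨k, rfl⟩ | ⟨k, rfl⟩
    · refine ⟨0, ?_⟩
      rw [← two_mul, zpow_mul, zpow_ofNat, pow_two, h2, one_zpow]
      simp
    · refine ⟨1, ?_⟩
      rw [zpow_add, zpow_mul, zpow_ofNat, pow_two, h2, one_zpow]
      simp
  have hsurj : Function.Surjective (fun ij : Fin 2 × Fin 2 => a ^ (ij.1 : ℕ) * b ^ (ij.2 : ℕ)) := by
    intro g
    have h1 : g ∈ closure ({a, b} : Set G) := by rw [hab]; trivial
    obtain ⟨m, n, rfl⟩ := mem_closure_pair.1 h1
    obtain ⟨i, hi⟩ := hz a m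
    obtain ⟨j, hj⟩ := hz b n
    exact ⟨(i, j), by rw [hi, hj]⟩
  have h1 := Nat.card_le_card_of_surjective _ hsurj
  simpa using h1

theorem twoGen_of_isCyclic {G : Type u} [Group G] (h : IsCyclic G) : TwoGen G := by
  obtain ⟨a, ha⟩ := h.exists_generator
  refine ⟨a, a, ?_⟩
  rw [eq_top_iff]
  intro g _
  rw [Set.pair_eq_singleton, ← zpowers_eq_closure]
  exact ha g

theorem twoGen_quaternion (n : ℕ) [NeZero n] : TwoGen (QuaternionGroup n) := by
  refine ⟨QuaternionGroup.a 1, QuaternionGroup.xa 0, ?_⟩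
  rw [eq_top_iff]
  have h1 : (QuaternionGroup.a 1 : QuaternionGroup n) ∈
      closure ({QuaternionGroup.a 1, QuaternionGroup.xa 0} : Set (QuaternionGroup n)) :=
    subset_closure (by simp)
  have h2 : (QuaternionGroup.xa 0 : QuaternionGroup n) ∈
      closure ({QuaternionGroup.a 1, QuaternionGroup.xa 0} : Set (QuaternionGroup n)) :=
    subset_closure (by simp)
  have h3 : ∀ i : ZMod (2 * n), (QuaternionGroup.a i : QuaternionGroup n) ∈
      closure ({QuaternionGroup.a 1, QuaternionGroup.xa 0} : Set (QuaternionGroup n)) := by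
    intro i
    have h4 := pow_mem h1 i.val
    rw [QuaternionGroup.a_one_pow, ZMod.natCast_zmod_val] at h4
    exact h4
  rintro (i | i) -
  · exact h3 i
  · have h4 := mul_mem h2 (h3 i)
    rw [QuaternionGroup.xa_mul_a, zero_add] at h4
    exact h4

/-- commuting involutions are equal -/
def CI (G : Type*) [Group G] : Prop := ∀ s t : G, orderOf s = 2 → orderOf t = 2 → Commute s t → s = t

theorem twoGen_of_unique {P : Type u} [Group P] [Finite P] (hP : IsPGroup 2 P) (h : CI P) : TwoGen P := by
  have : Fact (Nat.Prime 2) := ⟨Nat.prime_two⟩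
  rcases subsingleton_or_nontrivial P with hs | hn
  · exact ⟨1, 1, Subsingleton.elim _ _⟩
  have hc : Nontrivial (center P) := hP.center_nontrivial
  have hz : ∃ z : center P, orderOf z = 2 := by
    have h1 : 2 ∣ Nat.card (center P) := by
      rcases (hP.to_subgroup (center P)).card_eq_or_dvd with h2 | h2
      · exact absurd h2 Finite.one_lt_card.ne'
      · exact h2
    exact exists_prime_orderOf_dvd_card' 2 h1
  obtain ⟨z, hz⟩ := hz
  have hz2 : orderOf (z : P) = 2 := by rw [Subgroup.orderOf_coe, hz]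
  have huniq : ∀ t : P, orderOf t = 2 → t = z := fun t ht =>
    h t z ht hz2 (mem_center_iff.1 z.2 t)
  have huniq' : ∀ H : Subgroup P, Nat.card H = 2 → H = zpowers (z : P) := by
    intro H hH
    obtain ⟨t, ht⟩ := exists_prime_orderOf_dvd_card' (G := H) 2 (by rw [hH])
    have ht2 : orderOf (t : P) = 2 := by rw [Subgroup.orderOf_coe, ht]
    symm
    refine eq_of_le_of_card_ge ?_ ?_
    · rw [zpowers_le, ← huniq _ ht2]
      exact t.2
    · rw [hH, Nat.card_zpowers, hz2]
  rcases S0016.result 2 hP (fun H K hH hK => by rw [huniq' H hH, huniq' K hK]) with h1 | ⟨-, n, ⟨e⟩⟩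
  · exact twoGen_of_isCyclic h1
  · exact (twoGen_quaternion (2 ^ n)).map e.symm.toMonoidHom e.symm.surjective

theorem CI.of_injective {G : Type u} {H : Type v} [Group G] [Group H] (h : CI H) (f : G →* H)
    (hf : Function.Injective f) : CI G := by
  intro s t hs ht hst
  apply hf
  refine h _ _ ?_ ?_ (hst.map f)
  · rw [orderOf_injective f hf, hs]
  · rw [orderOf_injective f hf, ht]

/-- no commuting pair of four-groups in a quotient of a group with commuting involutions equal -/
theorem false_of_four {N : Type u} {X : Type v} [Group N] [Finite N] [Group X] [Finite X] (h : CI N) (f : N →* X)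
    (hf : Function.Surjective f) {E₁ E₂ : Subgroup X} (h1 : IsKleinFour E₁) (h2 : IsKleinFour E₂)
    (hc : ∀ x ∈ E₁, ∀ y ∈ E₂, Commute x y) (hd : ∀ x ∈ E₁, x ∈ E₂ → x = 1) : False := by
  have : Fact (Nat.Prime 2) := ⟨Nat.prime_two⟩
  let φ : ↥E₁ × ↥E₂ →* X := MonoidHom.noncommCoprod E₁.subtype E₂.subtype (fun a b => hc a a.2 b b.2)
  have hφ : Function.Injective φ := by
    rw [injective_iff_map_eq_one]
    rintro ⟨a, b⟩ hab
    have h3 : (a : X) * (b : X) = 1 := hab
    have h4 : (a : X) = (b : X)⁻¹ := eq_inv_of_mul_eq_one_left h3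
    have ha : (a : X) = 1 := hd a a.2 (by rw [h4]; exact inv_mem b.2)
    have hb : (b : X) = 1 := by rw [ha, one_mul] at h3; exact h3
    exact Prod.ext (Subtype.ext ha) (Subtype.ext hb)
  have hcE : Nat.card φ.range = 16 := by
    rw [← Nat.card_congr (MonoidHom.ofInjective hφ).toEquiv, Nat.card_prod, IsKleinFour.card_four,
      IsKleinFour.card_four]
  have hsq : ∀ g : φ.range, g * g = 1 := by
    rintro ⟨_, ⟨a, b⟩, rfl⟩
    apply Subtype.ext
    change φ (a, b) * φ (a, b) = 1
    rw [← map_mul, Prod.mk_mul_mk, IsKleinFour.mul_self, IsKleinFour.mul_self]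
    exact map_one φ
  have hE2 : IsPGroup 2 φ.range := IsPGroup.of_card (n := 4) (by rw [hcE]; norm_num)
  let g : ↥(φ.range.comap f) →* ↥φ.range := f.subgroupComap φ.range
  have hg : Function.Surjective g := by
    rintro ⟨y, hy⟩
    obtain ⟨x, rfl⟩ := hf y
    exact ⟨⟨x, hy⟩, rfl⟩
  let P : Sylow 2 ↥(φ.range.comap f) := default
  have hP : (P.mapSurjective hg : Subgroup ↥φ.range) = ⊤ := by
    have h5 := (P.mapSurjective hg).is_maximal' (Q := ⊤) (hE2.to_subgroup _) le_top
    exact h5.symm
  have htg : TwoGen ↥(P : Subgroup ↥(φ.range.comap f)) := by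
    refine twoGen_of_unique P.2 ?_
    exact (h.of_injective (φ.range.comap f).subtype (Subtype.val_injective)).of_injective
      (P : Subgroup ↥(φ.range.comap f)).subtype (Subtype.val_injective)
  have h6 : TwoGen ↥φ.range := by
    refine htg.map (g.comp (P : Subgroup ↥(φ.range.comap f)).subtype) ?_
    intro y
    have h7 : y ∈ (P.mapSurjective hg : Subgroup ↥φ.range) := by rw [hP]; trivial
    obtain ⟨x, hx, hxy⟩ := h7
    exact ⟨⟨x, hx⟩, hxy⟩
  have h8 := h6.card_le hsq
  rw [hcE] at h8
  omega

end Cfsg.Agent.H388.TwoGen
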