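import Cfsg.Agent.H388.Rad
import Cfsg.Agent.H388.TwoGen
import Cfsg.Agent.H388.EvenFixAll
import Cfsg.Agent.S0000
import Cfsg.Agent.S0204

/-!
# An odd prime not joined to 2: `G / Rad(G)` is almost simple

* `exists_diag` : an element `x` of odd prime order moving a simple component commutes with an involution;
* `om_subsingleton` : `X` without solvable normal subgroups, `r ∣ |X|` an odd prime, no element of order `2 r`:
  only one simple component;
* `false_of_two` : `r ∤ |G / R|`, `r ∣ |G|`, no element of order `2 r`: only one simple component in `G / R`;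
* `main` : the theorem.
-/

set_option autoImplicit false

namespace Cfsg.Agent.H388.AlmostSimple

open Subgroup Cfsg
open Cfsg.Agent.H388.Rad Cfsg.Agent.H388.TwoGen

universe u v

section

variable {X : Type u} [Group X]

/-- elements of coprime prime orders which commute -/
theorem order_mul {a b : X} {p q : ℕ} (hp : p.Prime) (hq : q.Prime) (hpq : p ≠ q) (ha : orderOf a = p)
    (hb : orderOf b = q) (hc : Commute a b) : orderOf (a * b) = p * q := by
  have h1 : (orderOf a).Coprime (orderOf b) := by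
    rw [ha, hb]
    exact (Nat.coprime_primes hp hq).2 hpq
  rw [hc.orderOf_mul_eq_mul_orderOf_of_coprime h1, ha, hb]

/-- the products `c 0 * c 1 * ... * c (n-1)`, `c i = x ^ i * t * x ^ (-i)` -/
def cc (x t : X) (i : ℕ) : X := x ^ i * t * (x ^ i)⁻¹

/-- partial products -/
def yy (x t : X) : ℕ → X
  | 0 => 1
  | n + 1 => yy x t n * cc x t n

theorem mul_pow_eq (x t : X) (n : ℕ) : (t * x) ^ n = yy x t n * x ^ n := by
  induction n with
  | zero => simp [yy]
  | succ n ih =>
    rw [pow_succ, ih, yy, cc, pow_succ]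
    group

theorem exists_diag [Finite X] {T : Subgroup X} (hT : T ∈ Om X) {r : ℕ} (hr : r.Prime) {x : X}
    (hx : orderOf x = r) (hne : x ∉ normalizer (T : Set X)) {t : X} (ht : t ∈ T) (ht2 : orderOf t = 2) :
    ∃ y : X, orderOf y = 2 ∧ Commute y x := by
  -- the components
  let S : ℕ → Subgroup X := fun i => T.map (MulAut.conj (x ^ i)).toMonoidHom
  have hS : ∀ i, S i ∈ Om X := fun i => om_conj hT _
  have hmemS : ∀ (i : ℕ) (a : X), a ∈ T ↔ x ^ i * a * (x ^ i)⁻¹ ∈ S i := by
    intro i a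
    constructor
    · intro ha
      exact ⟨a, ha, rfl⟩
    · rintro ⟨b, hb, hba⟩
      have h1 : x ^ i * b * (x ^ i)⁻¹ = x ^ i * a * (x ^ i)⁻¹ := hba
      have h2 : b = a := mul_left_cancel (mul_right_cancel h1)
      rwa [h2] at hb
  have hdist : ∀ i j, i < j → j < r → S i ≠ S j := by
    intro i j hij hj h
    have h1 : x ^ (j - i) ∈ normalizer (T : Set X) := by
      rw [mem_normalizer_iff]
      intro a
      rw [hmemS i (x ^ (j - i) * a * (x ^ (j - i))⁻¹), h, hmemS j a]
      have h2 : x ^ i * (x ^ (j - i) * a * (x ^ (j - i))⁻¹) * (x ^ i)⁻¹ = x ^ j * a * (x ^ j)⁻¹ := by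
        have h3 : x ^ j = x ^ i * x ^ (j - i) := by rw [← pow_add, Nat.add_sub_cancel' hij.le]
        rw [h3]
        group
      rw [h2]
    have h2 : (j - i).Coprime (orderOf x) := by
      rw [hx]
      exact ((Nat.coprime_or_dvd_of_prime hr (j - i)).resolve_right (fun hd => by
        have := Nat.le_of_dvd (by omega) hd
        omega)).symm
    obtain ⟨m, hm⟩ := exists_pow_eq_self_of_coprime h2
    exact hne (hm ▸ pow_mem h1 m)
  have hcS : ∀ i, cc x t i ∈ S i := fun i => ⟨t, ht, rfl⟩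
  have hcomm : ∀ i j, i < r → j < r → i ≠ j → ∀ a ∈ S i, ∀ b ∈ S j, Commute a b := by
    intro i j hi hj hij a ha b hb
    refine om_commute (hS i) (hS j) ?_ ha hb
    rcases lt_or_gt_of_ne hij with h | h
    · exact hdist i j h hj
    · exact (hdist j i h hi).symm
  have hY : ∀ n, n ≤ r → ∀ j, n ≤ j → j < r → ∀ b ∈ S j, Commute (yy x t n) b := by
    intro n
    induction n with
    | zero => intro _ j _ _ b _; exact Commute.one_left b
    | succ n ih =>
      intro hn j hj hjr b hb
      exact (ih (by omega) j (by omega) hjr b hb).mul_left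
        (hcomm n j (by omega) hjr (by omega) _ (hcS n) b hb)
  have hsqc : ∀ i, cc x t i * cc x t i = 1 := by
    intro i
    have h1 : t * t = 1 := by rw [← pow_two, ← ht2, pow_orderOf_eq_one]
    calc cc x t i * cc x t i = x ^ i * (t * t) * (x ^ i)⁻¹ := by unfold cc; group
      _ = 1 := by rw [h1]; group
  have hsq : ∀ n, n ≤ r → yy x t n * yy x t n = 1 := by
    intro n
    induction n with
    | zero => intro _; exact one_mul 1
    | succ n ih =>
      intro hn
      have h1 := hY n (by omega) n le_rfl (by omega) _ (hcS n)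
      calc yy x t n * cc x t n * (yy x t n * cc x t n)
          = yy x t n * (cc x t n * yy x t n) * cc x t n := by group
        _ = (yy x t n * yy x t n) * (cc x t n * cc x t n) := by rw [← h1.eq]; group
        _ = 1 := by rw [ih (by omega), hsqc, one_mul]
  have htc : ∀ n, n ≤ r → Commute (yy x t n) t := by
    intro n
    induction n with
    | zero => intro _; exact Commute.one_left t
    | succ n ih =>
      intro hn
      refine (ih (by omega)).mul_left ?_
      rcases Nat.eq_zero_or_pos n with rfl | h0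
      · have h1 : cc x t 0 = t := by unfold cc; simp
        rw [h1]
        exact Commute.refl t
      · exact hcomm n 0 (by omega) (by omega) (by omega) _ (hcS n) t ⟨t, ht, by simp⟩
  have hxr : x ^ r = 1 := by rw [← hx, pow_orderOf_eq_one]
  have hyr : yy x t r = (t * x) ^ r := by rw [mul_pow_eq, hxr, mul_one]
  have hcx : Commute (yy x t r) x := by
    have h1 : Commute (yy x t r) (t * x) := by
      rw [hyr]
      exact (Commute.refl _).pow_left r
    have h2 := (htc r le_rfl).inv_right.mul_right h1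
    rwa [inv_mul_cancel_left] at h2
  refine ⟨yy x t r, ?_, hcx⟩
  have : Fact (Nat.Prime 2) := ⟨Nat.prime_two⟩
  refine orderOf_eq_prime (by rw [pow_two]; exact hsq r le_rfl) ?_
  intro h1
  obtain ⟨k, rfl⟩ : ∃ k, r = k + 1 := ⟨r - 1, by have := hr.pos; omega⟩
  have h2 : cc x t k = (yy x t k)⁻¹ := eq_inv_of_mul_eq_one_right h1
  have h3 : cc x t k = 1 := by
    refine om_center (hS k) (hcS k) ?_
    intro b hb
    rw [h2]
    exact (hY k (by omega) k le_rfl (by omega) b hb).inv_left
  have h4 : t = 1 := by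
    have h5 : x ^ k * t * (x ^ k)⁻¹ = 1 := h3
    have h6 : t = (x ^ k)⁻¹ * (x ^ k * t * (x ^ k)⁻¹) * x ^ k := by group
    rw [h6, h5]
    group
  rw [h4, orderOf_one] at ht2
  omega

/-- conjugation by an element of the normalizer -/
noncomputable def cj (T : Subgroup X) (x : X) (hx : x ∈ normalizer (T : Set X)) : MulAut ↥T :=
  { toFun := fun a => ⟨x * a * x⁻¹, (mem_normalizer_iff.1 hx a).1 a.2⟩
    invFun := fun a => ⟨x⁻¹ * a * x, by
      have h := (mem_normalizer_iff.1 (inv_mem hx) a).1 a.2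
      rwa [inv_inv] at h⟩
    left_inv := fun a => Subtype.ext (by change x⁻¹ * (x * a * x⁻¹) * x = a; group)
    right_inv := fun a => Subtype.ext (by change x * (x⁻¹ * a * x) * x⁻¹ = a; group)
    map_mul' := fun a b => Subtype.ext (by change x * (a * b) * x⁻¹ = (x * a * x⁻¹) * (x * b * x⁻¹); group) }

theorem cj_apply (T : Subgroup X) (x : X) (hx : x ∈ normalizer (T : Set X)) (a : ↥T) :
    ((cj T x hx a : ↥T) : X) = x * a * x⁻¹ := rfl

theorem cj_pow (T : Subgroup X) (x : X) (hx : x ∈ normalizer (T : Set X)) (n : ℕ) (a : ↥T) :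
    (((cj T x hx ^ n) a : ↥T) : X) = x ^ n * a * (x ^ n)⁻¹ := by
  induction n with
  | zero => simp
  | succ n ih =>
    rw [pow_succ', MulAut.mul_apply, cj_apply, ih, pow_succ']
    group

/-- **Case `r ∣ |X|`.** -/
theorem om_subsingleton [Finite X] {r : ℕ} (hr : r.Prime) (hr2 : r ≠ 2) (hrX : r ∣ Nat.card X)
    (hno : ∀ g : X, orderOf g ≠ 2 * r) : ∀ T₁ ∈ Om X, ∀ T₂ ∈ Om X, T₁ = T₂ := by
  have : Fact r.Prime := ⟨hr⟩
  have hno' : ∀ y x : X, orderOf y = 2 → orderOf x = r → Commute y x → False := fun y x hy hx hc =>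
    hno _ (order_mul Nat.prime_two hr hr2.symm hy hx hc)
  intro T₁ h₁ T₂ h₂
  by_contra hne
  have hinv : ∀ T ∈ Om X, ∃ t ∈ T, orderOf t = 2 := by
    intro T hT
    have := hT.2
    obtain ⟨t, ht⟩ := EvenFixAll.exists_orderOf_two (om_not_comm hT)
    exact ⟨t, t.2, by rw [Subgroup.orderOf_coe, ht]⟩
  have hndvd : ¬ r ∣ Nat.card ↥T₁ := by
    intro h
    obtain ⟨x, hx⟩ := exists_prime_orderOf_dvd_card' (G := ↥T₁) r h
    obtain ⟨t, ht, ht2⟩ := hinv T₂ h₂
    exact hno' t x ht2 (by rw [Subgroup.orderOf_coe, hx]) (om_commute h₁ h₂ hne x.2 ht).symm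
  obtain ⟨x, hx⟩ := exists_prime_orderOf_dvd_card' (G := X) r hrX
  by_cases hn : x ∈ normalizer (T₁ : Set X)
  · have := h₁.2
    have hσ : (cj T₁ x hn) ^ r = 1 := by
      ext a
      rw [cj_pow, ← hx, pow_orderOf_eq_one]
      simp
    obtain ⟨g, hg, hgx⟩ := EvenFixAll.exists_involution (om_not_comm h₁) S0000.result hr hr2 hndvd
      (cj T₁ x hn) hσ
    have h3 : x * g * x⁻¹ = g := congrArg Subtype.val hgx
    refine hno' g x (by rw [Subgroup.orderOf_coe, hg]) hx ?_
    have h4 : x * (g : X) = g * x := by rw [mul_inv_eq_iff_eq_mul] at h3; exact h3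
    exact h4.symm
  · obtain ⟨t, ht, ht2⟩ := hinv T₁ h₁
    obtain ⟨y, hy, hyx⟩ := exists_diag h₁ hr hx hn ht ht2
    exact hno' y x hy hx hyx

end

/-- a Klein four-subgroup of a subgroup, in the whole group -/
theorem exists_four {X : Type u} [Group X] [Finite X] {T : Subgroup X} (hT : T ∈ Om X) :
    ∃ E : Subgroup X, E ≤ T ∧ IsKleinFour ↥E := by
  have := hT.2
  have hnc : ¬ IsCyclic ↥T := fun h => om_not_comm hT (by
    have := h
    exact IsCyclic.isMulCommutative)
  obtain ⟨E, hE⟩ := S0204.result (G := ↥T) hnc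
  have e : ↥E ≃* ↥(E.map T.subtype) := E.equivMapOfInjective T.subtype Subtype.val_injective
  refine ⟨E.map T.subtype, map_subtype_le E, ⟨?_, ?_⟩⟩
  · rw [← Nat.card_congr e.toEquiv, hE.card_four]
  · rw [← Monoid.exponent_eq_of_mulEquiv e, hE.exponent_two]

/-- **Case `r ∤ |G / R|`.** -/
theorem om_subsingleton' {G : Type u} [Group G] [Finite G] (R : Subgroup G) [R.Normal] {r : ℕ} (hr : r.Prime)
    (hr2 : r ≠ 2) (hrG : r ∣ Nat.card G) (hrX : ¬ r ∣ Nat.card (G ⧸ R)) (hno : ∀ g : G, orderOf g ≠ 2 * r) :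
    ∀ T₁ ∈ Om (G ⧸ R), ∀ T₂ ∈ Om (G ⧸ R), T₁ = T₂ := by
  have : Fact r.Prime := ⟨hr⟩
  have hno' : ∀ y x : G, orderOf y = 2 → orderOf x = r → Commute y x → False := fun y x hy hx hc =>
    hno _ (order_mul Nat.prime_two hr hr2.symm hy hx hc)
  have hrR : r ∣ Nat.card ↥R := by
    have h1 := R.card_eq_card_quotient_mul_card_subgroup
    rw [h1] at hrG
    exact (hr.dvd_mul.1 hrG).resolve_left hrX
  let Q : Sylow r ↥R := default
  let Q' : Subgroup G := (Q : Subgroup ↥R).map R.subtype
  have hQ' : IsPGroup r ↥Q' := Q.2.map R.subtype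
  have hQ1 : Q' ≠ ⊥ := by
    intro h
    have h1 : (Q : Subgroup ↥R) = ⊥ := (Subgroup.map_eq_bot_iff_of_injective _ R.subtype_injective).1 h
    have h2 := Q.dvd_card_of_dvd_card hrR
    rw [h1, Subgroup.card_bot] at h2
    exact hr.one_lt.ne' (Nat.dvd_one.1 h2)
  let N : Subgroup G := normalizer (Q' : Set G)
  have hNR : N ⊔ R = ⊤ := Sylow.normalizer_sup_eq_top Q
  -- involutions of `N` invert `Q'`
  have hinv : ∀ u : G, u ∈ N → orderOf u = 2 → ∀ q ∈ Q', u * q * u⁻¹ = q⁻¹ := by
    intro u hu hu2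
    have hfix : ∀ q ∈ Q', u * q * u⁻¹ = q → q = 1 := by
      intro q hq hqu
      by_contra hq1
      have h1 : q ∈ Q' ⊓ centralizer ({u} : Set G) := by
        refine mem_inf.2 ⟨hq, mem_centralizer_iff.2 ?_⟩
        rintro _ rfl
        rw [mul_inv_eq_iff_eq_mul] at hqu
        exact hqu
      have h2 : IsPGroup r ↥(Q' ⊓ centralizer ({u} : Set G)) := hQ'.to_le inf_le_left
      have h3 : r ∣ Nat.card ↥(Q' ⊓ centralizer ({u} : Set G)) := by
        rcases h2.card_eq_or_dvd with h4 | h4
        · rw [Subgroup.card_eq_one] at h4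
          rw [h4, mem_bot] at h1
          exact absurd h1 hq1
        · exact h4
      obtain ⟨c, hc⟩ := exists_prime_orderOf_dvd_card' (G := ↥(Q' ⊓ centralizer ({u} : Set G))) r h3
      have h5 := mem_centralizer_iff.1 (mem_inf.1 c.2).2 u rfl
      exact hno' u c hu2 (by rw [Subgroup.orderOf_coe, hc]) h5
    let φ : ↥Q' →* ↥Q' := (cj Q' u hu).toMonoidHom
    have hφ : MonoidHom.FixedPointFree φ := by
      intro q hq
      have h1 : u * q * u⁻¹ = q := congrArg Subtype.val hq
      exact Subtype.ext (hfix q q.2 h1)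
    have hφ2 : Function.Involutive φ := by
      intro q
      apply Subtype.ext
      change u * (u * q * u⁻¹) * u⁻¹ = q
      have h1 : u * u = 1 := by rw [← pow_two, ← hu2, pow_orderOf_eq_one]
      calc u * (u * q * u⁻¹) * u⁻¹ = (u * u) * q * (u * u)⁻¹ := by group
        _ = q := by rw [h1]; simp
    intro q hq
    have h1 := congrFun (hφ.coe_eq_inv_of_involutive hφ2) ⟨q, hq⟩
    exact congrArg Subtype.val h1
  have hCI : CI ↥N := by
    intro s t hs ht hst
    by_contra hne
    have hs' : orderOf (s : G) = 2 := by rw [Subgroup.orderOf_coe, hs]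
    have ht' : orderOf (t : G) = 2 := by rw [Subgroup.orderOf_coe, ht]
    have hcomm : Commute (s : G) (t : G) := congrArg Subtype.val hst
    have hss : (s : G) * s = 1 := by rw [← pow_two, ← hs', pow_orderOf_eq_one]
    have htt : (t : G) * t = 1 := by rw [← pow_two, ← ht', pow_orderOf_eq_one]
    have hst2 : orderOf ((s : G) * t) = 2 := by
      have : Fact (Nat.Prime 2) := ⟨Nat.prime_two⟩
      refine orderOf_eq_prime ?_ ?_
      · calc ((s : G) * t) ^ 2 = s * (t * s) * t := by rw [pow_two]; group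
          _ = (s * s) * (t * t) := by rw [← hcomm.eq]; group
          _ = 1 := by rw [hss, htt, one_mul]
      · intro h
        apply hne
        apply Subtype.ext
        have h1 : (s : G) = (t : G)⁻¹ := eq_inv_of_mul_eq_one_left h
        rw [h1]
        exact inv_eq_of_mul_eq_one_left htt
    obtain ⟨q, hq1⟩ := Subgroup.ne_bot_iff_exists_ne_one.1 hQ1
    have hq : (q : G) ∈ Q' := q.2
    have h1 := hinv _ (mul_mem s.2 t.2) hst2 q hq
    have h2 : (s : G) * t * q * ((s : G) * t)⁻¹ = q := by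
      calc (s : G) * t * q * ((s : G) * t)⁻¹ = s * (t * q * (t : G)⁻¹) * (s : G)⁻¹ := by group
        _ = q := by
          rw [hinv _ t.2 ht' q hq, hinv _ s.2 hs' _ (inv_mem hq), inv_inv]
    rw [h2] at h1
    -- `q = q⁻¹` with `q` of odd order
    have h3 : (q : G) * q = 1 := by
      nth_rewrite 1 [h1]
      exact inv_mul_cancel _
    have h4 : orderOf (q : G) ∣ 2 := orderOf_dvd_of_pow_eq_one (by rw [pow_two]; exact h3)
    obtain ⟨k, hk⟩ := hQ' q
    have h5 : orderOf (q : G) ∣ r ^ k := by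
      have h6 : orderOf q ∣ r ^ k := orderOf_dvd_of_pow_eq_one hk
      rwa [Subgroup.orderOf_coe]
    have h7 : (2 : ℕ).Coprime (r ^ k) :=
      Nat.Coprime.pow_right k ((Nat.coprime_primes Nat.prime_two hr).2 hr2.symm)
    have h8 : orderOf (q : G) = 1 := Nat.eq_one_of_dvd_coprimes h7 h4 h5
    rw [Subgroup.orderOf_coe, orderOf_eq_one_iff] at h8
    exact hq1 h8
  intro T₁ h₁ T₂ h₂
  by_contra hne
  obtain ⟨E₁, hE₁, hK₁⟩ := exists_four h₁
  obtain ⟨E₂, hE₂, hK₂⟩ := exists_four h₂
  have hsurj : Function.Surjective ((QuotientGroup.mk' R).comp N.subtype) := by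
    intro y
    obtain ⟨x, rfl⟩ := QuotientGroup.mk'_surjective R y
    have hx : x ∈ N ⊔ R := by rw [hNR]; trivial
    rw [← SetLike.mem_coe, mul_normal] at hx
    obtain ⟨n, hn, w, hw, rfl⟩ := hx
    refine ⟨⟨n, hn⟩, ?_⟩
    change (QuotientGroup.mk' R) n = (QuotientGroup.mk' R) (n * w)
    have hw1 : (QuotientGroup.mk' R) w = 1 := by
      rw [QuotientGroup.mk'_apply, QuotientGroup.eq_one_iff]
      exact hw
    rw [map_mul, hw1, mul_one]
  refine false_of_four hCI _ hsurj hK₁ hK₂ (fun x hx y hy => om_commute h₁ h₂ hne (hE₁ hx) (hE₂ hy)) ?_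
  intro x hx1 hx2
  exact om_center h₁ (hE₁ hx1) fun t ht => (om_commute h₁ h₂ hne ht (hE₂ hx2)).symm

/-- **An odd prime not joined to `2`: `G / Rad(G)` is almost simple.** -/
theorem main {G : Type u} [Group G] [Finite G] (hns : ¬ Group.IsSolvable G)
    {r : ℕ} (hr : r.Prime) (hodd : r ≠ 2) (hrG : r ∣ Nat.card G) (hno : ∀ g : G, orderOf g ≠ 2 * r)
    (R : Subgroup G) [R.Normal] (hRs : Group.IsSolvable ↥R)
    (hRmax : ∀ N : Subgroup G, N.Normal → Group.IsSolvable ↥N → N ≤ R) :
    ∃ S : Subgroup (G ⧸ R), S.Normal ∧ IsSimpleGroup ↥S ∧ ¬ IsMulCommutative ↥S ∧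
      Subgroup.centralizer (S : Set (G ⧸ R)) = ⊥ := by
  have htr := trivRad_quotient R hRs hRmax
  have hnt : Nontrivial (G ⧸ R) := by
    rw [QuotientGroup.nontrivial_iff]
    rintro rfl
    have : Subsingleton (G ⧸ (⊤ : Subgroup G)) := QuotientGroup.subsingleton_quotient_top
    exact hns ((Group.isSolvable_iff_subgroup_quotient (⊤ : Subgroup G)).2 ⟨hRs, inferInstance⟩)
  refine almost_simple_of_subsingleton htr ?_
  by_cases hd : r ∣ Nat.card (G ⧸ R)
  · refine om_subsingleton hr hodd hd ?_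
    intro y hy
    obtain ⟨x, rfl⟩ := QuotientGroup.mk'_surjective R y
    have h1 : 2 * r ∣ orderOf x := by
      rw [← hy]
      exact orderOf_map_dvd (QuotientGroup.mk' R) x
    obtain ⟨k, hk⟩ := h1
    have hx0 : orderOf x ≠ 0 := (orderOf_pos x).ne'
    have hk0 : k ≠ 0 := by
      rintro rfl
      exact hx0 (by rw [hk, mul_zero])
    refine hno (x ^ k) ?_
    rw [orderOf_pow_of_dvd hk0 ⟨2 * r, by rw [hk, mul_comm]⟩, hk, Nat.mul_div_cancel _ (Nat.pos_of_ne_zero hk0)]
  · exact om_subsingleton' R hr hodd hrG hd hno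

end Cfsg.Agent.H388.AlmostSimple
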