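import Cfsg.Agent.FixOdd.TwOf
import Cfsg.Agent.FixOdd.Trans
import Cfsg.Agent.S0320
import Cfsg.Agent.Tits.Opp

/-!
# An automorphism of prime order `r`, `r` not dividing `|K|`, of a group with a split (B,N)-pair has
a fixed group of even order

`even_cent` : `Fix` is the set of fixed chambers; `C = C_K(τ)` is transitive on it (Glauberman's lemma) and every
fixed chamber `x` is opposite to exactly `|C ∩ U x|` fixed chambers. Opposition is symmetric and irreflexive. So `|C|`
is even.

`HasSplit.exists_involution` : `K` with a split (B,N)-pair (any characteristic), `x ^ r = 1`, `r` prime to `|K|`: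
some involution of `K` is fixed by `x`.
-/

set_option autoImplicit false

open scoped Pointwise

namespace Cfsg.Agent.H388.EvenFix

open Cfsg.Agent.Tits.Core Cfsg.Agent.Tits.Core.Bldg Cfsg.Agent.Tits Cfsg.Agent.Tits.Opp
open Cfsg.Agent.FixBN (Sys HasSplit Split)
open Cfsg.Agent.FixOdd

variable {I : Type*} {M : CoxeterMatrix I} {W : Type*} [Group W] {cs : CoxeterSystem M W} {C : Type*}
variable {Δ : Bldg cs C} {G : Type*} [Group G] [MulAction G C] {p r : ℕ} {t : Tw Δ G}

/-- a set with a free transitive action of a subgroup has its cardinality -/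
theorem card_opp_fixed (S : Sys Δ G p) [F : OppRes.Cox cs] [Finite W] [Finite I] [Finite G] [Finite C] [hr : Fact r.Prime]
    (ho : t.Ord r) (hcop : ¬ r ∣ Nat.card G) {x : C} (hx : t.θ x = x) :
    Nat.card {y : C // t.θ y = y ∧ Δ.Opp x y} = Nat.card ↥(t.cent ⊓ S.U x) := by
  classical
  have hw : ∀ y, Δ.Opp x y → Δ.Opp x (t.θ y) := by
    intro y hy
    have h1 := t.δ_θ x y
    rw [hx] at h1
    change Δ.δ x (t.θ y) = w0 cs
    rw [h1, hy]
    exact Cox.map_wJ t.φ_simple (J := Set.univ) (fun _ _ => trivial)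
  have hiter : ∀ (n : ℕ) (y : C), Δ.Opp x y → Δ.Opp x ((t.θ ^ n) y) := by
    intro n
    induction n with
    | zero => intro y hy; exact hy
    | succ n ih =>
      intro y hy
      rw [pow_succ', Equiv.Perm.mul_apply]
      exact hw _ (ih y hy)
  -- the chambers opposite to `x`
  obtain ⟨y1, hy1⟩ := exists_opp Δ x
  let α := {y : C // Δ.Opp x y}
  have e : ↥(S.U x) ≃ α := by
    refine Equiv.ofBijective (fun u => ⟨(u : G) • y1, ?_⟩) ⟨?_, ?_⟩
    · change Δ.δ x ((u : G) • y1) = w0 cs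
      have h1 := S.iso (u : G) x y1
      rw [S.fix x u u.2] at h1
      rw [h1]
      exact hy1
    · intro u v huv
      have h1 : (u : G) • y1 = (v : G) • y1 := congrArg Subtype.val huv
      have h2 : ((v : G)⁻¹ * u) • y1 = y1 := by rw [mul_smul, h1, inv_smul_smul]
      have h3 := S.free x y1 hy1 _ ((S.U x).mul_mem ((S.U x).inv_mem v.2) u.2) h2
      exact Subtype.ext (inv_mul_eq_one.1 h3).symm
    · rintro ⟨y, hy⟩
      obtain ⟨u, hu, huy⟩ := S.trans x y1 y hy1 hy
      exact ⟨⟨u, hu⟩, Subtype.ext huy⟩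
  have hα : ¬ r ∣ Nat.card α := by
    rw [← Nat.card_congr e]
    exact fun h => hcop (h.trans (Subgroup.card_subgroup_dvd_card _))
  let f : α → α := fun y => ⟨t.θ y.1, hw _ y.2⟩
  have hf : f^[r] = id := by
    funext y
    apply Subtype.ext
    have h1 : ∀ n : ℕ, ∀ y : α, (f^[n] y).1 = (t.θ ^ n) y.1 := by
      intro n
      induction n with
      | zero => intro y; rfl
      | succ n ih =>
        intro y
        rw [Function.iterate_succ_apply, ih, pow_succ, Equiv.Perm.mul_apply]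
    rw [h1, ho.θ]
    rfl
  obtain ⟨⟨y0, hy0⟩, hy0f⟩ := Tw.exists_fixed f hf hα
  have hy0' : t.θ y0 = y0 := congrArg Subtype.val hy0f
  symm
  refine Nat.card_congr (Equiv.ofBijective (fun u => ⟨(u : G) • y0, ?_, ?_⟩) ⟨?_, ?_⟩)
  · rw [t.θ_smul, hy0', t.mem_cent.1 (Subgroup.mem_inf.1 u.2).1]
  · change Δ.δ x ((u : G) • y0) = w0 cs
    have h1 := S.iso (u : G) x y0
    rw [S.fix x u (Subgroup.mem_inf.1 u.2).2] at h1
    rw [h1]
    exact hy0
  · intro u v huv
    have h1 : (u : G) • y0 = (v : G) • y0 := congrArg Subtype.val huv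
    have h2 : ((v : G)⁻¹ * u) • y0 = y0 := by rw [mul_smul, h1, inv_smul_smul]
    have h3 := S.free x y0 hy0 _ ((S.U x).mul_mem ((S.U x).inv_mem (Subgroup.mem_inf.1 v.2).2)
      (Subgroup.mem_inf.1 u.2).2) h2
    exact Subtype.ext (inv_mul_eq_one.1 h3).symm
  · rintro ⟨y, hy, hxy⟩
    obtain ⟨u, hu, huy⟩ := S.trans x y0 y hy0 hxy
    refine ⟨⟨u, Subgroup.mem_inf.2 ⟨?_, hu⟩⟩, Subtype.ext huy⟩
    have h1 : t.τ u ∈ S.U x := by
      have h2 := t.τ_mem_U S hu
      rwa [hx] at h2
    have h2 : t.τ u • y0 = y := by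
      have h3 := t.θ_smul u y0
      rw [huy, hy, hy0'] at h3
      exact h3.symm
    have h3 : (u⁻¹ * t.τ u) • y0 = y0 := by rw [mul_smul, h2, ← huy, inv_smul_smul]
    have h4 := S.free x y0 hy0 _ ((S.U x).mul_mem ((S.U x).inv_mem hu) h1) h3
    exact (inv_mul_eq_one.1 h4).symm

theorem even_cent (S : Sys Δ G p) [F : OppRes.Cox cs] [Finite W] [Finite I] [Nonempty I] [Finite G] [Finite C]
    [hC : Nonempty C] [hr : Fact r.Prime] (ho : t.Ord r) (hcop : ¬ r ∣ Nat.card G)
    (htr : ∀ x y : C, ∃ g : G, g • x = y) : Even (Nat.card ↥t.cent) := by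
  classical
  -- transitivity on the fixed chambers
  have htr' : ∀ x y : C, t.θ x = x → t.θ y = y → ∃ g ∈ t.cent, g • x = y := by
    intro x y hx hy
    obtain ⟨g, hg⟩ := htr x y
    obtain ⟨a, -, ha, hax⟩ := t.exists_cent ho ⊤ (fun _ _ => Subgroup.mem_top _)
      (by rwa [Subgroup.card_top]) (Z := {x}) (Z' := {y}) (by rw [Set.image_singleton, hx])
      (by rw [Set.image_singleton, hy]) ⟨g, Subgroup.mem_top _, by rw [Set.smul_set_singleton, hg]⟩
    rw [Set.smul_set_singleton] at hax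
    exact ⟨a, ha, Set.singleton_injective hax⟩
  -- a fixed chamber
  have hCcard : Nat.card C ∣ Nat.card G := by
    obtain ⟨x0⟩ := hC
    have h1 : MulAction.orbit G x0 = Set.univ := by
      ext y
      simp only [Set.mem_univ, iff_true]
      obtain ⟨g, hg⟩ := htr x0 y
      exact ⟨g, hg⟩
    have h2 : Nat.card C = (MulAction.stabilizer G x0).index := by
      rw [MulAction.index_stabilizer, h1, Set.ncard_univ]
    rw [h2]
    exact Subgroup.index_dvd_card _
  obtain ⟨x0, hx0⟩ : ∃ x0, t.θ x0 = x0 := by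
    refine Tw.exists_fixed (r := r) (fun x => t.θ x) ?_ (fun h => hcop (h.trans hCcard))
    funext x
    change (⇑t.θ)^[r] x = x
    rw [Equiv.Perm.iterate_eq_pow, ho.θ]
    rfl
  let Fx := {x : C // t.θ x = x}
  have hFx : Fintype Fx := Fintype.ofFinite _
  -- `|Fix|` divides `|C(τ)|`
  have hdvd : Nat.card Fx ∣ Nat.card ↥t.cent := by
    let act : MulAction ↥t.cent Fx :=
      { smul := fun g x => ⟨(g : G) • x.1, by rw [t.θ_smul, x.2, t.mem_cent.1 g.2]⟩
        one_smul := fun x => Subtype.ext (one_smul G x.1)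
        mul_smul := fun g h x => Subtype.ext (mul_smul (g : G) (h : G) x.1) }
    have h1 : MulAction.orbit ↥t.cent (⟨x0, hx0⟩ : Fx) = Set.univ := by
      ext y
      simp only [Set.mem_univ, iff_true]
      obtain ⟨g, hg, hgy⟩ := htr' x0 y.1 hx0 y.2
      exact ⟨⟨g, hg⟩, Subtype.ext hgy⟩
    have h2 : Nat.card Fx = (MulAction.stabilizer ↥t.cent (⟨x0, hx0⟩ : Fx)).index := by
      rw [MulAction.index_stabilizer, h1, Set.ncard_univ]
    rw [h2]
    exact Subgroup.index_dvd_card _
  by_contra hodd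
  rw [Nat.not_even_iff_odd] at hodd
  -- the graph of opposition
  have hne : (w0 cs) ≠ 1 := by
    intro h
    obtain ⟨i⟩ := ‹Nonempty I›
    have h1 := F.len_w0_mul (cs.simple i)
    rw [h, one_mul, cs.length_one, cs.length_simple] at h1
    omega
  let Γ : SimpleGraph Fx :=
    { Adj := fun x y => Δ.Opp x.1 y.1
      symm := ⟨fun x y h => opp_symm Δ h⟩
      loopless := ⟨fun x h => by
        have h1 : Δ.δ x.1 x.1 = w0 cs := h
        rw [(Δ.eq_one x.1 x.1).2 rfl] at h1
        exact hne h1.symm⟩ }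
  have hdeg : ∀ x : Fx, Odd (Γ.degree x) := by
    intro x
    have h1 : Γ.degree x = Nat.card {y : C // t.θ y = y ∧ Δ.Opp x.1 y} := by
      rw [← SimpleGraph.card_neighborSet_eq_degree, ← Nat.card_eq_fintype_card]
      refine Nat.card_congr
        { toFun := fun y => ⟨y.1.1, y.1.2, y.2⟩
          invFun := fun y => ⟨⟨y.1, y.2.1⟩, y.2.2⟩
          left_inv := fun y => rfl
          right_inv := fun y => rfl }
    rw [h1, card_opp_fixed S ho hcop x.2]
    exact Odd.of_dvd_nat hodd (Subgroup.card_dvd_of_le inf_le_left)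
  have h2 := Γ.even_card_odd_degree_vertices
  have h3 : Finset.univ.filter (fun v : Fx => Odd (Γ.degree v)) = Finset.univ :=
    Finset.filter_true_of_mem fun x _ => hdeg x
  rw [h3, Finset.card_univ, ← Nat.card_eq_fintype_card] at h2
  have h4 := h2.trans_dvd hdvd
  exact (Nat.not_even_iff_odd.2 hodd) h4

/-- **Coprime automorphisms of prime order of groups with a split (B,N)-pair centralise an involution.** -/
theorem exists_involution_of_hasSplit {K : Type*} [Group K] [Finite K] {p r : ℕ} [hp : Fact p.Prime]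
    [hr : Fact r.Prime] (h : HasSplit p K) (hcop : ¬ r ∣ Nat.card K) (x : MulAut K) (hx : x ^ r = 1) :
    ∃ g : K, orderOf g = 2 ∧ x g = g := by
  obtain ⟨P, U, hne, h⟩ := h
  have hN : ((P.B ⊓ P.N).subgroupOf P.N).Normal := Cfsg.Agent.Tits.OfBN.normal_subgroupOf P
  obtain ⟨M, cs, hcs⟩ := Cfsg.Agent.S0320.result P
  obtain ⟨t, ht, hto⟩ := exists_tw h (Equiv.refl P.S) cs hcs x
  have hI : Finite P.S := FixBN.OfBN.finite_I (Equiv.refl P.S)
  have hIn : Nonempty P.S := hne.to_subtype
  have ho : t.Ord r := ⟨by rw [ht]; exact hx, hto r hx⟩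
  have h2 : Even (Nat.card ↥t.cent) := by
    refine even_cent (FixBN.OfBN.sys (Equiv.refl P.S) cs hcs h) ho hcop fun a b => ?_
    induction a using QuotientGroup.induction_on with
    | _ a =>
    induction b using QuotientGroup.induction_on with
    | _ b =>
    exact ⟨b * a⁻¹, by rw [FixBN.OfBN.smul_mk, inv_mul_cancel_right]⟩
  have : Fact (Nat.Prime 2) := ⟨Nat.prime_two⟩
  obtain ⟨g, hg⟩ := exists_prime_orderOf_dvd_card' 2 (even_iff_two_dvd.1 h2)
  refine ⟨g, by rw [Subgroup.orderOf_coe, hg], ?_⟩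
  have h3 := t.mem_cent.1 g.2
  rwa [ht] at h3

end Cfsg.Agent.H388.EvenFix
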