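import Mathlib
import Cfsg.Prelude.Def_Local
import Cfsg.Agent.Lib.MinNormal
import Cfsg.Agent.Lib.MinNormalNonabelian
import Cfsg.Agent.SignalizersComponents.Components

/-!
# Finite groups without solvable normal subgroups `≠ 1`

* `TrivRad G` : every solvable normal subgroup is trivial; `trivRad_quotient` : `G / Rad(G)`;
* `Om G` : the simple components; `exists_om` : every normal subgroup `≠ 1` contains one;
  `om_commute`, `om_conj`, `om_center`, `om_not_comm`;
* `almost_simple_of_subsingleton` : if there is only one simple component then it is normal with trivial centralizer.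
-/

set_option autoImplicit false

namespace Cfsg.Agent.H388.Rad

open Subgroup Cfsg
open scoped commutatorElement
open Cfsg.Agent.SignalizersComponents.Components

universe u v

/-- no solvable normal subgroup `≠ 1` -/
def TrivRad (G : Type*) [Group G] : Prop := ∀ N : Subgroup G, N.Normal → Group.IsSolvable ↥N → N = ⊥

/-- the simple components -/
def Om (G : Type*) [Group G] : Set (Subgroup G) := {T | IsComponent T ∧ IsSimpleGroup ↥T}

variable {G : Type u} [Group G]

theorem trivRad_quotient (R : Subgroup G) [R.Normal] (hRs : Group.IsSolvable ↥R)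
    (hRmax : ∀ N : Subgroup G, N.Normal → Group.IsSolvable ↥N → N ≤ R) : TrivRad (G ⧸ R) := by
  intro N hN hs
  have h2 : Group.IsSolvable ↥(N.comap (QuotientGroup.mk' R)) := by
    have hle : R ≤ N.comap (QuotientGroup.mk' R) := by
      intro x hx
      rw [mem_comap, QuotientGroup.mk'_apply, (QuotientGroup.eq_one_iff x).2 hx]
      exact N.one_mem
    let f : ↥R →* ↥(N.comap (QuotientGroup.mk' R)) := Subgroup.inclusion hle
    let g : ↥(N.comap (QuotientGroup.mk' R)) →* ↥N := (QuotientGroup.mk' R).subgroupComap N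
    refine Group.isSolvable_of_ker_le_range f g ?_
    rintro ⟨x, hx⟩ hxk
    rw [MonoidHom.mem_ker] at hxk
    have h3 : (QuotientGroup.mk' R) x = 1 := congrArg Subtype.val hxk
    rw [QuotientGroup.mk'_apply, QuotientGroup.eq_one_iff] at h3
    exact ⟨⟨x, h3⟩, rfl⟩
  have h3 := hRmax _ inferInstance h2
  rw [eq_bot_iff]
  intro y hy
  obtain ⟨x, rfl⟩ := QuotientGroup.mk'_surjective R y
  have h4 : x ∈ R := h3 hy
  rw [mem_bot, QuotientGroup.mk'_apply, QuotientGroup.eq_one_iff]
  exact h4

theorem center_eq_bot_of_simple {K : Type*} [Group K] [IsSimpleGroup K] (hna : ¬ IsMulCommutative K) :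
    center K = ⊥ := by
  rcases IsSimpleGroup.eq_bot_or_eq_top_of_normal (center K) inferInstance with h | h
  · exact h
  · exact absurd (isMulCommutative_iff.2 fun a b => by
      have : b ∈ center K := by rw [h]; trivial
      exact mem_center_iff.1 this a) hna

/-- A non-abelian simple group is quasisimple. -/
theorem isQuasisimple_of_simple {K : Type*} [Group K] [IsSimpleGroup K] (hna : ¬ IsMulCommutative K) :
    IsQuasisimple K := by
  have hz := center_eq_bot_of_simple hna
  refine ⟨?_, ?_⟩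
  · rw [Group.isPerfect_def]
    rcases (inferInstance : (_root_.commutator K).Normal).eq_bot_or_eq_top with h | h
    · exfalso
      apply hna
      refine ⟨⟨fun a b => ?_⟩⟩
      have h1 : ⁅a, b⁆ ∈ _root_.commutator K := commutator_mem_commutator (mem_top a) (mem_top b)
      rw [h, mem_bot] at h1
      exact commutatorElement_eq_one_iff_mul_comm.1 h1
    · exact h
  · have e := ((QuotientGroup.quotientMulEquivOfEq hz).trans QuotientGroup.quotientBot : K ⧸ center K ≃* K)
    exact e.isSimpleGroup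

theorem om_of_normal {M T : Subgroup G} (hM : M.Normal) (hTM : T ≤ M) (hn : M ≤ normalizer (T : Set G))
    (hs : IsSimpleGroup ↥T) (hna : ¬ IsMulCommutative ↥T) : T ∈ Om G := by
  refine ⟨⟨IsSubnormal.step T M hTM hM.isSubnormal ?_, isQuasisimple_of_simple hna⟩, hs⟩
  exact (normal_subgroupOf_iff_le_normalizer hTM).2 hn

theorem om_not_comm {T : Subgroup G} (hT : T ∈ Om G) : ¬ IsMulCommutative ↥T :=
  quasisimple_not_isMulCommutative hT.1.2

theorem om_commute {T₁ T₂ : Subgroup G} (h₁ : T₁ ∈ Om G) (h₂ : T₂ ∈ Om G) (hne : T₁ ≠ T₂) {x y : G} (hx : x ∈ T₁)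
    (hy : y ∈ T₂) : Commute x y :=
  (mem_centralizer_iff.1 (component_le_centralizer_of_ne h₁.1 h₂.1 hne hx) y hy).symm

theorem om_conj {T : Subgroup G} (h : T ∈ Om G) (g : G) : T.map (MulAut.conj g).toMonoidHom ∈ Om G := by
  refine ⟨isComponent_conj g h.1, ?_⟩
  have := h.2
  exact (T.equivMapOfInjective _ (MulAut.conj g).injective).symm.isSimpleGroup

theorem om_center {T : Subgroup G} (h : T ∈ Om G) {z : G} (hz : z ∈ T) (hc : ∀ t ∈ T, Commute z t) : z = 1 := by
  have := h.2
  have h1 : (⟨z, hz⟩ : ↥T) ∈ center ↥T := by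
    rw [mem_center_iff]
    rintro ⟨t, ht⟩
    exact Subtype.ext (hc t ht).symm
  rw [center_eq_bot_of_simple (om_not_comm h), mem_bot] at h1
  exact congrArg Subtype.val h1

/-- every normal subgroup `≠ 1` contains a simple component -/
theorem exists_om [Finite G] (h : TrivRad G) (N : Subgroup G) [hNn : N.Normal] (hN : N ≠ ⊥) :
    ∃ T ∈ Om G, T ≤ N := by
  have hfin : {M : Subgroup G | M.Normal ∧ M ≠ ⊥ ∧ M ≤ N}.Finite := Set.toFinite _
  obtain ⟨M, ⟨hMn, hM0, hMN⟩, hMmin⟩ := hfin.exists_minimal ⟨N, hNn, hN, le_rfl⟩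
  have hmin : ∀ L : Subgroup G, L.Normal → L ≤ M → L = ⊥ ∨ L = M := by
    intro L hL hLM
    by_cases hL0 : L = ⊥
    · exact Or.inl hL0
    · exact Or.inr (le_antisymm hLM (hMmin ⟨hL, hL0, hLM.trans hMN⟩ hLM))
  have hna : ¬ ∀ x ∈ M, ∀ y ∈ M, Commute x y := by
    intro hc
    refine hM0 (h M hMn (Group.isSolvable_of_comm fun a b => Subtype.ext (hc a a.2 b b.2)))
  obtain ⟨⟨T, hT⟩, -, -, hs, hz, -⟩ := Lib.MinNormalNonabelian.nonabelian_structure M hmin hna
  have hTs := hs T hT
  refine ⟨T, om_of_normal hMn hT.1 hT.2.2.1 hTs ?_, hT.1.trans hMN⟩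
  intro hc
  have hnt : Nontrivial ↥T := inferInstance
  obtain ⟨z, hz1⟩ := exists_ne (1 : ↥T)
  apply hz1
  exact Subtype.ext (hz T hT z z.2 fun t ht => congrArg Subtype.val (hc.is_comm.comm z ⟨t, ht⟩))

/-- if there is only one simple component then it is normal with trivial centralizer -/
theorem almost_simple_of_subsingleton [Finite G] [Nontrivial G] (h : TrivRad G)
    (hsub : ∀ T₁ ∈ Om G, ∀ T₂ ∈ Om G, T₁ = T₂) :
    ∃ S : Subgroup G, S.Normal ∧ IsSimpleGroup ↥S ∧ ¬ IsMulCommutative ↥S ∧ centralizer (S : Set G) = ⊥ := by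
  obtain ⟨S, hS, -⟩ := exists_om h ⊤ top_ne_bot
  have hSn : S.Normal := by
    refine ⟨fun n hn g => ?_⟩
    have h1 := hsub _ (om_conj hS g) _ hS
    rw [← h1]
    exact ⟨n, hn, rfl⟩
  refine ⟨S, hSn, hS.2, om_not_comm hS, ?_⟩
  by_contra hC
  obtain ⟨T, hT, hTC⟩ := exists_om h (centralizer (S : Set G)) hC
  have h1 := hsub T hT S hS
  subst h1
  exact om_not_comm hS (isMulCommutative_iff.2 fun a b => Subtype.ext
    ((mem_centralizer_iff.1 (hTC b.2) a a.2)))

end Cfsg.Agent.H388.Rad
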