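import Cfsg.Agent.H388.PG
import Cfsg.Agent.H388.AlmostSimple

/-!
# Bounded prime graph classes consist of almost simple groups

* `trivRad_of_bounded` : bounded class: no solvable normal subgroup;
* `almost_of_bounded` : `G ≠ 1` with a bounded class is almost simple.
-/

set_option autoImplicit false

namespace Cfsg.Agent.H388.Bounded

open Subgroup Cfsg
open Cfsg.Agent.H388.Rad Cfsg.Agent.H388.PG

universe u v

/-- a solvable normal subgroup `≠ 1` contains a normal `p`-subgroup `≠ 1` -/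
theorem exists_normal_pgroup {G : Type u} [Group G] [Finite G] {N : Subgroup G} (hNn : N.Normal) (hN : N ≠ ⊥)
    (hs : Group.IsSolvable ↥N) : ∃ (p : ℕ) (Q : Subgroup G), p.Prime ∧ Q.Normal ∧ Q ≠ ⊥ ∧ Q ≤ N ∧ IsPGroup p ↥Q := by
  have hfin : {M : Subgroup G | M.Normal ∧ M ≠ ⊥ ∧ M ≤ N}.Finite := Set.toFinite _
  obtain ⟨M, ⟨hMn, hM0, hMN⟩, hMmin⟩ := hfin.exists_minimal ⟨N, hNn, hN, le_rfl⟩
  have hmin : ∀ L : Subgroup G, L.Normal → L ≤ M → L = ⊥ ∨ L = M := by
    intro L hL hLM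
    by_cases hL0 : L = ⊥
    · exact Or.inl hL0
    · exact Or.inr (le_antisymm hLM (hMmin ⟨hL, hL0, hLM.trans hMN⟩ hLM))
  by_cases hab : ∀ x ∈ M, ∀ y ∈ M, Commute x y
  · obtain ⟨p, hp, hpM, -⟩ := Lib.MinNormalNonabelian.abelian_structure M hM0 hmin hab
    exact ⟨p, M, hp, hMn, hM0, hMN, hpM⟩
  · exfalso
    obtain ⟨⟨T, hT⟩, -, -, hsi, hz, -⟩ := Lib.MinNormalNonabelian.nonabelian_structure M hmin hab
    have hTs := hsi T hT
    have h1 : Group.IsSolvable ↥T :=
      Group.isSolvable_of_isSolvable_injective (Subgroup.inclusion_injective (hT.1.trans hMN))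
    obtain ⟨z, hz1⟩ := exists_ne (1 : ↥T)
    apply hz1
    exact Subtype.ext (hz T hT z z.2 fun t ht =>
      congrArg Subtype.val ((IsSimpleGroup.comm_iff_isSolvable (G := ↥T)).2 h1 z ⟨t, ht⟩))

theorem trivRad_of_bounded {G : Type u} [Group G] [Finite G] (h : ¬ Unb G) : TrivRad G := by
  intro N hN hs
  by_contra h1
  obtain ⟨p, Q, hp, hQn, hQ1, -, hQ⟩ := exists_normal_pgroup hN h1 hs
  have : Fact p.Prime := ⟨hp⟩
  exact h (unbounded_of_clq hQn hQ1 (clq_of_isPGroup hQ))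

theorem almost_of_bounded {G : Type u} [Group G] [Finite G] [Nontrivial G] (h : ¬ Unb G) :
    ∃ N : Subgroup G, N.Normal ∧ IsSimpleGroup ↥N ∧ ¬ IsMulCommutative ↥N ∧ centralizer (N : Set G) = ⊥ := by
  have hrad := trivRad_of_bounded h
  refine almost_simple_of_subsingleton hrad ?_
  have heven : 2 ∣ Nat.card G := by
    by_contra h2
    have h3 : Group.IsSolvable G := S0205.result (Nat.odd_iff.2 (by omega))
    exact top_ne_bot (hrad ⊤ inferInstance inferInstance)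
  have h2 : ¬ ∀ q : ℕ, q.Prime → q ∣ Nat.card G → q ≠ 2 → Adj G 2 q := fun h1 =>
    h (unbounded_of_vertex Nat.prime_two heven h1)
  push Not at h2
  obtain ⟨r, hr, hrG, hr2, hno⟩ := h2
  exact AlmostSimple.om_subsingleton hr hr2 hrG fun g hg => hno ⟨g, hg⟩

theorem main {G : Type u} [Group G] [Finite G] [Nontrivial G]
    (h : ∃ n : ℕ, ∀ (H : Type) [Group H] [Finite H], Same G H → Nat.card H ≤ n) :
    (∃ N : Subgroup G, N.Normal ∧ IsSimpleGroup ↥N ∧ ¬ IsMulCommutative ↥N ∧ centralizer (N : Set G) = ⊥) ∧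
    ∀ (H : Type) [Group H] [Finite H], Same G H →
      ∃ N : Subgroup H, N.Normal ∧ IsSimpleGroup ↥N ∧ ¬ IsMulCommutative ↥N ∧ centralizer (N : Set H) = ⊥ := by
  have hU : ¬ Unb G := by
    intro h1
    obtain ⟨n, hn⟩ := h
    obtain ⟨H, i1, i2, h2, h3⟩ := h1 n
    have := hn H h3
    omega
  refine ⟨almost_of_bounded hU, ?_⟩
  intro H _ _ hS
  have hnt : Nontrivial H := by
    obtain ⟨p, hp, hpG⟩ := Nat.exists_prime_and_dvd (n := Nat.card G) Finite.one_lt_card.ne'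
    rw [← Finite.one_lt_card_iff_nontrivial]
    exact hp.one_lt.trans_le (Nat.le_of_dvd Nat.card_pos ((hS.1 p hp).1 hpG))
  exact almost_of_bounded fun h1 => hU (h1.congr hS.symm)

end Cfsg.Agent.H388.Bounded
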