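import Cfsg.Agent.H388.PG
import Cfsg.Agent.H388.Rad
import Cfsg.Agent.H388.Bounded
import Cfsg.Agent.H388.FinSimple
import Cfsg.Agent.OrdDiv.Table
import Cfsg.Agent.S0000

/-!
# Unbounded prime graph classes contain a group with a solvable normal subgroup

* `clq_of_same_primes` : two simple components with the same prime divisors generate (with all of this kind) a normal
  subgroup whose primes are pairwise joined;
* `card_le` : a group without such subgroups is bounded in terms of the orders of its simple components;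
* `main`.
-/

set_option autoImplicit false

namespace Cfsg.Agent.H388.ClassBound

open Subgroup Cfsg
open Cfsg.Agent.H388.Rad Cfsg.Agent.H388.PG

universe u v

variable {G : Type u} [Group G]

/-- primes of the join of simple components -/
theorem exists_dvd_of_dvd_sSup [Finite G] {s : Set (Subgroup G)} (hs : s ⊆ Om G) {p : ℕ} (hp : p.Prime)
    (h : p ∣ Nat.card ↥(sSup s)) : ∃ T ∈ s, p ∣ Nat.card ↥T := by
  classical
  have hfin : Fintype s := Fintype.ofFinite s
  have hcomm : Pairwise fun i j : s => ∀ x y : G, x ∈ i.1 → y ∈ j.1 → Commute x y := by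
    intro i j hij x y hx hy
    exact om_commute (hs i.2) (hs j.2) (fun h => hij (Subtype.ext h)) hx hy
  have h1 : (Subgroup.noncommPiCoprod hcomm).range = ⨆ i : s, i.1 := Subgroup.noncommPiCoprod_range
  have h2 : sSup s = ⨆ i : s, i.1 := sSup_eq_iSup' s
  rw [h2, ← h1] at h
  have h3 := h.trans (Subgroup.card_range_dvd (Subgroup.noncommPiCoprod hcomm))
  rw [Nat.card_pi] at h3
  obtain ⟨i, -, hi⟩ := (Prime.dvd_finsetProd_iff hp.prime _).1 h3
  exact ⟨i.1, i.2, hi⟩

theorem card_conj (T : Subgroup G) (g : G) : Nat.card ↥(T.map (MulAut.conj g).toMonoidHom) = Nat.card ↥T :=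
  (Nat.card_congr (T.equivMapOfInjective _ (MulAut.conj g).injective).toEquiv).symm

/-- two simple components with the same primes -/
theorem clq_of_same_primes [Finite G] {T₁ T₂ : Subgroup G} (h₁ : T₁ ∈ Om G) (h₂ : T₂ ∈ Om G) (hne : T₁ ≠ T₂)
    (hp : (Nat.card ↥T₁).primeFactors = (Nat.card ↥T₂).primeFactors) :
    ∃ N : Subgroup G, N.Normal ∧ N ≠ ⊥ ∧ Clq G N := by
  let s : Set (Subgroup G) := {T | T ∈ Om G ∧ (Nat.card ↥T).primeFactors = (Nat.card ↥T₁).primeFactors}
  have hs : s ⊆ Om G := fun T hT => hT.1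
  have h1s : T₁ ∈ s := ⟨h₁, rfl⟩
  have h2s : T₂ ∈ s := ⟨h₂, hp.symm⟩
  refine ⟨sSup s, ?_, ?_, ?_⟩
  · refine ⟨fun n hn g => ?_⟩
    have h1 : (sSup s).map (MulAut.conj g).toMonoidHom ≤ sSup s := by
      rw [sSup_eq_iSup', Subgroup.map_iSup]
      refine iSup_le fun T => ?_
      refine le_iSup_of_le (⟨T.1.map (MulAut.conj g).toMonoidHom, om_conj (hs T.2) g, ?_⟩ : s) le_rfl
      rw [card_conj]
      exact T.2.2
    exact h1 ⟨n, hn, rfl⟩
  · intro h
    have h1 : T₁ ≤ ⊥ := h ▸ le_sSup h1s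
    exact SignalizersComponents.Components.component_ne_bot h₁.1 (le_bot_iff.1 h1)
  · intro p q hp' hq' hpq h3 h4
    have key : ∀ r : ℕ, r.Prime → r ∣ Nat.card ↥(sSup s) → ∀ T ∈ s, r ∣ Nat.card ↥T := by
      intro r hr hd T hT
      obtain ⟨T', hT', hr'⟩ := exists_dvd_of_dvd_sSup hs hr hd
      have h5 : r ∈ (Nat.card ↥T').primeFactors := Nat.mem_primeFactors.2 ⟨hr, hr', Nat.card_pos.ne'⟩
      rw [hT'.2, ← hT.2] at h5
      exact Nat.dvd_of_mem_primeFactors h5
    have := Fact.mk hp'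
    have := Fact.mk hq'
    obtain ⟨a, ha⟩ := exists_prime_orderOf_dvd_card' (G := ↥T₁) p (key p hp' h3 T₁ h1s)
    obtain ⟨b, hb⟩ := exists_prime_orderOf_dvd_card' (G := ↥T₂) q (key q hq' h4 T₂ h2s)
    exact adj_of_commute hp' hq' hpq (by rw [Subgroup.orderOf_coe, ha]) (by rw [Subgroup.orderOf_coe, hb])
      (om_commute h₁ h₂ hne a.2 b.2)

/-- the bound -/
theorem card_le [Finite G] (hrad : TrivRad G) (hnc : ∀ N : Subgroup G, N.Normal → N ≠ ⊥ → ¬ Clq G N) {B : ℕ}
    (hB : ∀ T ∈ Om G, Nat.card ↥T ≤ B) {π : Finset ℕ} (hπ : ∀ p : ℕ, p.Prime → p ∣ Nat.card G → p ∈ π) :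
    Nat.card G ≤ ((B + 1) ^ (B + 1)) ^ 2 ^ π.card := by
  classical
  have hfin : Fintype (Om G) := Fintype.ofFinite (Om G)
  have hinj : ∀ T₁ ∈ Om G, ∀ T₂ ∈ Om G, (Nat.card ↥T₁).primeFactors = (Nat.card ↥T₂).primeFactors → T₁ = T₂ := by
    intro T₁ h₁ T₂ h₂ hp
    by_contra hne
    obtain ⟨N, hN, hN1, hc⟩ := clq_of_same_primes h₁ h₂ hne hp
    exact hnc N hN hN1 hc
  have hnorm : ∀ T ∈ Om G, T.Normal := by
    intro T hT
    refine ⟨fun n hn g => ?_⟩
    have h1 := hinj _ (om_conj hT g) T hT (by rw [card_conj])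
    rw [← h1]
    exact ⟨n, hn, rfl⟩
  -- the number of components
  have hOm : Fintype.card (Om G) ≤ 2 ^ π.card := by
    rw [← Finset.card_powerset, ← Fintype.card_coe]
    refine Fintype.card_le_of_injective (fun T => (⟨(Nat.card ↥T.1).primeFactors, ?_⟩ : ↥π.powerset)) ?_
    · rw [Finset.mem_powerset]
      intro p hp
      exact hπ p (Nat.prime_of_mem_primeFactors hp)
        ((Nat.dvd_of_mem_primeFactors hp).trans (Subgroup.card_subgroup_dvd_card _))
    · intro T₁ T₂ h
      exact Subtype.ext (hinj _ T₁.2 _ T₂.2 (congrArg Subtype.val h))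
  -- the action on the components
  let f : G → ∀ T : Om G, (↥T.1 → ↥T.1) := fun g T t => ⟨g * t * g⁻¹, (hnorm T.1 T.2).conj_mem t t.2 g⟩
  have hf : Function.Injective f := by
    intro g h hgh
    have hcen : g⁻¹ * h ∈ centralizer ((sSup (Om G) : Subgroup G) : Set G) := by
      have h1 : sSup (Om G) ≤ centralizer ({g⁻¹ * h} : Set G) := by
        refine sSup_le fun T hT t ht => ?_
        rw [mem_centralizer_iff]
        rintro _ rfl
        have h2 : g * t * g⁻¹ = h * t * h⁻¹ := congrArg Subtype.val (congrFun (congrFun hgh ⟨T, hT⟩) ⟨t, ht⟩)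
        calc g⁻¹ * h * t = g⁻¹ * (h * t * h⁻¹) * h := by group
          _ = t * (g⁻¹ * h) := by rw [← h2]; group
      rw [mem_centralizer_iff]
      intro t ht
      exact (mem_centralizer_iff.1 (h1 ht) _ rfl).symm
    have hbot : centralizer ((sSup (Om G) : Subgroup G) : Set G) = ⊥ := by
      by_contra hC
      have hn : (sSup (Om G) : Subgroup G).Normal := by
        refine ⟨fun n hn g => ?_⟩
        have h1 : (sSup (Om G)).map (MulAut.conj g).toMonoidHom ≤ sSup (Om G) := by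
          rw [sSup_eq_iSup', Subgroup.map_iSup]
          refine iSup_le fun T => ?_
          exact le_iSup_of_le (⟨T.1.map (MulAut.conj g).toMonoidHom, om_conj T.2 g⟩ : Om G) le_rfl
        exact h1 ⟨n, hn, rfl⟩
      obtain ⟨T, hT, hTC⟩ := exists_om hrad _ hC
      refine om_not_comm hT (isMulCommutative_iff.2 fun a b => Subtype.ext ?_)
      exact mem_centralizer_iff.1 (hTC b.2) a (le_sSup hT a.2)
    rw [hbot, mem_bot] at hcen
    exact inv_mul_eq_one.1 hcen
  have h1 := Nat.card_le_card_of_injective f hf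
  refine h1.trans ?_
  rw [Nat.card_pi]
  have h2 : ∀ T : Om G, Nat.card (↥T.1 → ↥T.1) ≤ (B + 1) ^ (B + 1) := by
    intro T
    rw [Nat.card_fun]
    have h3 := hB T.1 T.2
    exact (Nat.pow_le_pow_left (h3.trans (Nat.le_succ B)) _).trans
      (Nat.pow_le_pow_right (Nat.succ_pos B) (h3.trans (Nat.le_succ B)))
  calc ∏ T : Om G, Nat.card (↥T.1 → ↥T.1) ≤ ∏ _T : Om G, (B + 1) ^ (B + 1) :=
        Finset.prod_le_prod' fun T _ => h2 T
    _ = ((B + 1) ^ (B + 1)) ^ Fintype.card (Om G) := by rw [Finset.prod_const, Finset.card_univ]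
    _ ≤ ((B + 1) ^ (B + 1)) ^ 2 ^ π.card := Nat.pow_le_pow_right (Nat.pow_pos (Nat.succ_pos B)) hOm

theorem main {G : Type u} [Group G] [Finite G]
    (h : ∀ n : ℕ, ∃ (H : Type) (_ : Group H) (_ : Finite H), n < Nat.card H ∧ Same G H) :
    ∃ (H : Type) (_ : Group H) (_ : Finite H), Same G H ∧
      ∃ N : Subgroup H, N.Normal ∧ N ≠ ⊥ ∧ Group.IsSolvable ↥N := by
  by_contra hcon
  push Not at hcon
  obtain ⟨B, hB⟩ := FinSimple.card_bound.{0} OrdDiv.table.{0} (Nat.card G)
  obtain ⟨H, i1, i2, hH, hS⟩ := h (((B + 1) ^ (B + 1)) ^ 2 ^ (Nat.card G).primeFactors.card)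
  have hrad : TrivRad H := by
    intro N hN hs
    by_contra h1
    exact hcon H i1 i2 hS N hN h1 hs
  have hnc : ∀ N : Subgroup H, N.Normal → N ≠ ⊥ → ¬ Clq H N := by
    intro N hN hN1 hc
    obtain ⟨K, j1, j2, hK, -, p, Q, hp, hQ, hQ1, hQp⟩ := exists_same_of_clq hN hN1 hc
    have := Fact.mk hp
    have : Group.IsNilpotent ↥Q := hQp.isNilpotent
    exact hcon K j1 j2 (hS.trans hK) Q hQ hQ1 inferInstance
  have hle := card_le hrad hnc (B := B) (π := (Nat.card G).primeFactors) ?_ ?_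
  · omega
  · intro T hT
    have := hT.2
    refine hB ↥T S0000.result ?_ ?_
    · intro hc
      exact om_not_comm hT (isMulCommutative_iff.2 hc)
    · intro p hp hpT
      exact Nat.le_of_dvd Nat.card_pos ((hS.1 p hp).2 (hpT.trans (Subgroup.card_subgroup_dvd_card _)))
  · intro p hp hpH
    exact Nat.mem_primeFactors.2 ⟨hp, (hS.1 p hp).2 hpH, Nat.card_pos.ne'⟩

end Cfsg.Agent.H388.ClassBound
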