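import Cfsg.Agent.H388.EvenFix

/-!
# An automorphism of prime order `r` fixing a Sylow `p`-subgroup `Q`, `r ∤ |N(Q)|`, of a group with a split
(B,N)-pair in characteristic `p` has a fixed group of even order
-/

set_option autoImplicit false

open scoped Pointwise

namespace Cfsg.Agent.H388.EvenFix

open Cfsg.Agent.Tits.Core Cfsg.Agent.Tits.Core.Bldg Cfsg.Agent.Tits Cfsg.Agent.Tits.Opp
open Cfsg.Agent.FixBN (Sys HasSplit Split)
open Cfsg.Agent.FixOdd

variable {I : Type*} {M : CoxeterMatrix I} {W : Type*} [Group W] {cs : CoxeterSystem M W} {C : Type*}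
variable {Δ : Bldg cs C} {G : Type*} [Group G] [MulAction G C] {p r : ℕ} {t : Tw Δ G}

/-- the fixed chambers opposite to a fixed chamber -/
theorem card_opp_fixed' (S : Sys Δ G p) [F : OppRes.Cox cs] [Finite W] [Finite I] [Finite G] [Finite C]
    [hr : Fact r.Prime] (ho : t.Ord r) {x : C} (hcop : ¬ r ∣ Nat.card ↥(MulAction.stabilizer G x)) (hx : t.θ x = x) :
    Nat.card {y : C // t.θ y = y ∧ Δ.Opp x y} = Nat.card ↥(t.cent ⊓ S.U x) := by
  classical
  have hw : ∀ y, Δ.Opp x y → Δ.Opp x (t.θ y) := by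
    intro y hy
    have h1 := t.δ_θ x y
    rw [hx] at h1
    change Δ.δ x (t.θ y) = w0 cs
    rw [h1, hy]
    exact Cox.map_wJ t.φ_simple (J := Set.univ) (fun _ _ => trivial)
  -- the chambers opposite to `x`
  obtain ⟨y1, hy1⟩ := exists_opp Δ x
  let α := {y : C // Δ.Opp x y}
  have e : ↥(S.U x) ≃ α := by
    refine Equiv.ofBijective (fun u => ⟨(u : G) • y1, ?_⟩) ⟨?_, ?_⟩
    · change Δ.δ x ((u : G) • y1) = w0 cs
      have h1 := S.iso (u : G) x y1
      rw [S.fix x u u.2] at h1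
      rw [h1]
      exact hy1
    · intro u v huv
      have h1 : (u : G) • y1 = (v : G) • y1 := congrArg Subtype.val huv
      have h2 : ((v : G)⁻¹ * u) • y1 = y1 := by rw [mul_smul, h1, inv_smul_smul]
      have h3 := S.free x y1 hy1 _ ((S.U x).mul_mem ((S.U x).inv_mem v.2) u.2) h2
      exact Subtype.ext (inv_mul_eq_one.1 h3).symm
    · rintro ⟨y, hy⟩
      obtain ⟨u, hu, huy⟩ := S.trans x y1 y hy1 hy
      exact ⟨⟨u, hu⟩, Subtype.ext huy⟩
  have hα : ¬ r ∣ Nat.card α := by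
    rw [← Nat.card_congr e]
    refine fun h => hcop (h.trans (Subgroup.card_dvd_of_le ?_))
    intro u hu
    exact S.fix x u hu
  let f : α → α := fun y => ⟨t.θ y.1, hw _ y.2⟩
  have hf : f^[r] = id := by
    funext y
    apply Subtype.ext
    have h1 : ∀ n : ℕ, ∀ y : α, (f^[n] y).1 = (t.θ ^ n) y.1 := by
      intro n
      induction n with
      | zero => intro y; rfl
      | succ n ih =>
        intro y
        rw [Function.iterate_succ_apply, ih, pow_succ, Equiv.Perm.mul_apply]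
    rw [h1, ho.θ]
    rfl
  obtain ⟨⟨y0, hy0⟩, hy0f⟩ := Tw.exists_fixed f hf hα
  have hy0' : t.θ y0 = y0 := congrArg Subtype.val hy0f
  symm
  refine Nat.card_congr (Equiv.ofBijective (fun u => ⟨(u : G) • y0, ?_, ?_⟩) ⟨?_, ?_⟩)
  · rw [t.θ_smul, hy0', t.mem_cent.1 (Subgroup.mem_inf.1 u.2).1]
  · change Δ.δ x ((u : G) • y0) = w0 cs
    have h1 := S.iso (u : G) x y0
    rw [S.fix x u (Subgroup.mem_inf.1 u.2).2] at h1
    rw [h1]
    exact hy0
  · intro u v huv
    have h1 : (u : G) • y0 = (v : G) • y0 := congrArg Subtype.val huv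
    have h2 : ((v : G)⁻¹ * u) • y0 = y0 := by rw [mul_smul, h1, inv_smul_smul]
    have h3 := S.free x y0 hy0 _ ((S.U x).mul_mem ((S.U x).inv_mem (Subgroup.mem_inf.1 v.2).2)
      (Subgroup.mem_inf.1 u.2).2) h2
    exact Subtype.ext (inv_mul_eq_one.1 h3).symm
  · rintro ⟨y, hy, hxy⟩
    obtain ⟨u, hu, huy⟩ := S.trans x y0 y hy0 hxy
    refine ⟨⟨u, Subgroup.mem_inf.2 ⟨?_, hu⟩⟩, Subtype.ext huy⟩
    have h1 : t.τ u ∈ S.U x := by
      have h2 := t.τ_mem_U S hu
      rwa [hx] at h2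
    have h2 : t.τ u • y0 = y := by
      have h3 := t.θ_smul u y0
      rw [huy, hy, hy0'] at h3
      exact h3.symm
    have h3 : (u⁻¹ * t.τ u) • y0 = y0 := by rw [mul_smul, h2, ← huy, inv_smul_smul]
    have h4 := S.free x y0 hy0 _ ((S.U x).mul_mem ((S.U x).inv_mem hu) h1) h3
    exact (inv_mul_eq_one.1 h4).symm

/-- The fixed group is transitive on the fixed chambers. -/
theorem trans_fixed [Finite G] [hr : Fact r.Prime] (ho : t.Ord r) {x y : C}
    (hcop : ¬ r ∣ Nat.card ↥(MulAction.stabilizer G x)) (hx : t.θ x = x) (hy : t.θ y = y)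
    (h : ∃ g : G, g • x = y) : ∃ g ∈ t.cent, g • x = y := by
  obtain ⟨g0, hg0⟩ := h
  let A := {g : G // g • x = y}
  have e : ↥(MulAction.stabilizer G x) ≃ A :=
    { toFun := fun s => ⟨g0 * s, by rw [mul_smul, MulAction.mem_stabilizer_iff.1 s.2, hg0]⟩
      invFun := fun g => ⟨g0⁻¹ * g.1, by rw [MulAction.mem_stabilizer_iff, mul_smul, g.2, ← hg0, inv_smul_smul]⟩
      left_inv := fun s => Subtype.ext (inv_mul_cancel_left _ _)
      right_inv := fun g => Subtype.ext (mul_inv_cancel_left _ _) }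
  let f : A → A := fun g => ⟨t.τ g.1, by
    have h1 := t.θ_smul g.1 x
    rw [g.2, hy, hx] at h1
    exact h1.symm⟩
  have hf : f^[r] = id := by
    funext g
    apply Subtype.ext
    have h1 : ∀ n : ℕ, ∀ g : A, (f^[n] g).1 = (t.τ ^ n) g.1 := by
      intro n
      induction n with
      | zero => intro g; rfl
      | succ n ih =>
        intro g
        rw [Function.iterate_succ_apply, ih, pow_succ, MulAut.mul_apply]
    rw [h1, ho.τ]
    rfl
  obtain ⟨⟨g, hg⟩, hgf⟩ := Tw.exists_fixed f hf (by rwa [← Nat.card_congr e])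
  exact ⟨g, t.mem_cent.2 (congrArg Subtype.val hgf), hg⟩

theorem even_cent' (S : Sys Δ G p) [F : OppRes.Cox cs] [Finite W] [Finite I] [Nonempty I] [Finite G] [Finite C]
    [hr : Fact r.Prime] (ho : t.Ord r) (hcop : ∀ x : C, ¬ r ∣ Nat.card ↥(MulAction.stabilizer G x))
    (htr : ∀ x y : C, ∃ g : G, g • x = y) {x0 : C} (hx0 : t.θ x0 = x0) : Even (Nat.card ↥t.cent) := by
  classical
  let Fx := {x : C // t.θ x = x}
  have hFx : Fintype Fx := Fintype.ofFinite _
  -- `|Fix|` divides `|C(τ)|`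
  have hdvd : Nat.card Fx ∣ Nat.card ↥t.cent := by
    let act : MulAction ↥t.cent Fx :=
      { smul := fun g x => ⟨(g : G) • x.1, by rw [t.θ_smul, x.2, t.mem_cent.1 g.2]⟩
        one_smul := fun x => Subtype.ext (one_smul G x.1)
        mul_smul := fun g h x => Subtype.ext (mul_smul (g : G) (h : G) x.1) }
    have h1 : MulAction.orbit ↥t.cent (⟨x0, hx0⟩ : Fx) = Set.univ := by
      ext y
      simp only [Set.mem_univ, iff_true]
      obtain ⟨g, hg, hgy⟩ := trans_fixed ho (hcop x0) hx0 y.2 (htr x0 y.1)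
      exact ⟨⟨g, hg⟩, Subtype.ext hgy⟩
    have h2 : Nat.card Fx = (MulAction.stabilizer ↥t.cent (⟨x0, hx0⟩ : Fx)).index := by
      rw [MulAction.index_stabilizer, h1, Set.ncard_univ]
    rw [h2]
    exact Subgroup.index_dvd_card _
  by_contra hodd
  rw [Nat.not_even_iff_odd] at hodd
  -- the graph of opposition
  have hne : (w0 cs) ≠ 1 := by
    intro h
    obtain ⟨i⟩ := ‹Nonempty I›
    have h1 := F.len_w0_mul (cs.simple i)
    rw [h, one_mul, cs.length_one, cs.length_simple] at h1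
    omega
  let Γ : SimpleGraph Fx :=
    { Adj := fun x y => Δ.Opp x.1 y.1
      symm := ⟨fun x y h => opp_symm Δ h⟩
      loopless := ⟨fun x h => by
        have h1 : Δ.δ x.1 x.1 = w0 cs := h
        rw [(Δ.eq_one x.1 x.1).2 rfl] at h1
        exact hne h1.symm⟩ }
  have hdeg : ∀ x : Fx, Odd (Γ.degree x) := by
    intro x
    have h1 : Γ.degree x = Nat.card {y : C // t.θ y = y ∧ Δ.Opp x.1 y} := by
      rw [← SimpleGraph.card_neighborSet_eq_degree, ← Nat.card_eq_fintype_card]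
      refine Nat.card_congr
        { toFun := fun y => ⟨y.1.1, y.1.2, y.2⟩
          invFun := fun y => ⟨⟨y.1, y.2.1⟩, y.2.2⟩
          left_inv := fun y => rfl
          right_inv := fun y => rfl }
    rw [h1, card_opp_fixed' S ho (hcop x.1) x.2]
    exact Odd.of_dvd_nat hodd (Subgroup.card_dvd_of_le inf_le_left)
  have h2 := Γ.even_card_odd_degree_vertices
  have h3 : Finset.univ.filter (fun v : Fx => Odd (Γ.degree v)) = Finset.univ :=
    Finset.filter_true_of_mem fun x _ => hdeg x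
  rw [h3, Finset.card_univ, ← Nat.card_eq_fintype_card] at h2
  have h4 := h2.trans_dvd hdvd
  exact (Nat.not_even_iff_odd.2 hodd) h4

/-- The Sylow subgroup determines the chamber. -/
theorem eq_of_UU {K : Type*} [Group K] {P : Cfsg.BNPair K} {U : Subgroup K} (h : Split P p U) {x y : K ⧸ P.B}
    (he : FixBN.OfBN.UU P U x = FixBN.OfBN.UU P U y) : x = y := by
  induction x using QuotientGroup.induction_on with
  | _ a =>
  induction y using QuotientGroup.induction_on with
  | _ b =>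
  have h1 : ∀ u : K, a⁻¹ * u * a ∈ U ↔ b⁻¹ * u * b ∈ U := fun u => by
    rw [← FixBN.OfBN.mem_UU h, ← FixBN.OfBN.mem_UU h, he]
  rw [FixBN.OfBN.mk_eq, ← h.normalizer_eq, Subgroup.mem_normalizer_iff]
  intro v
  have h2 := h1 (b * v * b⁻¹)
  have h3 : b⁻¹ * (b * v * b⁻¹) * b = v := by group
  have h4 : a⁻¹ * (b * v * b⁻¹) * a = a⁻¹ * b * v * (a⁻¹ * b)⁻¹ := by group
  rw [h3, h4] at h2
  exact h2.symm

/-- **Automorphisms of prime order `r` fixing a Sylow `p`-subgroup whose normalizer has order prime to `r`**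
centralise an involution. -/
theorem exists_involution_of_sylow {K : Type*} [Group K] [Finite K] {p r : ℕ} [hp : Fact p.Prime]
    [hr : Fact r.Prime] (h : HasSplit p K) (x : MulAut K) (hx : x ^ r = 1) (Q : Sylow p K)
    (hQ : ∀ u ∈ Q, x u ∈ Q) (hcop : ¬ r ∣ Nat.card ↥(Subgroup.normalizer ((Q : Subgroup K) : Set K))) :
    ∃ g : K, orderOf g = 2 ∧ x g = g := by
  obtain ⟨P, U, hne, h⟩ := h
  have hN : ((P.B ⊓ P.N).subgroupOf P.N).Normal := Cfsg.Agent.Tits.OfBN.normal_subgroupOf P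
  obtain ⟨M, cs, hcs⟩ := Cfsg.Agent.S0320.result P
  obtain ⟨t, ht, hto⟩ := exists_tw h (Equiv.refl P.S) cs hcs x
  have hI : Finite P.S := FixBN.OfBN.finite_I (Equiv.refl P.S)
  have hIn : Nonempty P.S := hne.to_subtype
  have ho : t.Ord r := ⟨by rw [ht]; exact hx, hto r hx⟩
  let S := FixBN.OfBN.sys (Equiv.refl P.S) cs hcs h
  -- the chamber of `Q`
  obtain ⟨c, hc⟩ := S.exists_fix Q Q.2
  have hQc : (Q : Subgroup K) = S.U c := by
    exact (Q.is_maximal' (S.isP c) (S.max c Q Q.2 hc)).symm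
  have hQc' : (Q : Subgroup K) = S.U (t.θ c) := by
    refine (Q.is_maximal' (S.isP (t.θ c)) (S.max (t.θ c) Q Q.2 ?_)).symm
    intro v hv
    -- `x` permutes `Q`
    have hsurj : ∃ v' ∈ Q, x v' = v := by
      let f : ↥Q → ↥Q := fun u => ⟨x u, hQ u u.2⟩
      have hf : Function.Injective f := fun a b hab => Subtype.ext (x.injective (congrArg Subtype.val hab))
      obtain ⟨v', hv'⟩ := (Finite.injective_iff_surjective.1 hf) ⟨v, hv⟩
      exact ⟨v', v'.2, congrArg Subtype.val hv'⟩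
    obtain ⟨v', hv', rfl⟩ := hsurj
    have h1 := t.θ_smul v' c
    rw [hc v' hv', ht] at h1
    exact h1.symm
  have hcθ : t.θ c = c := (eq_of_UU h (hQc.symm.trans hQc')).symm
  have htr : ∀ a b : K ⧸ P.B, ∃ g : K, g • a = b := by
    intro a b
    induction a using QuotientGroup.induction_on with
    | _ a =>
    induction b using QuotientGroup.induction_on with
    | _ b =>
    exact ⟨b * a⁻¹, by rw [FixBN.OfBN.smul_mk, inv_mul_cancel_right]⟩
  have hst : ∀ a : K ⧸ P.B, ¬ r ∣ Nat.card ↥(MulAction.stabilizer K a) := by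
    intro a hd
    obtain ⟨g, rfl⟩ := htr c a
    have e := (MulAction.stabilizerEquivStabilizer (G := K) (g := g) (a := c) (b := g • c) rfl)
    rw [← Nat.card_congr e.toEquiv] at hd
    refine hcop (hd.trans (Subgroup.card_dvd_of_le ?_))
    intro k hk
    rw [MulAction.mem_stabilizer_iff] at hk
    rw [Subgroup.mem_normalizer_iff]
    intro u
    rw [hQc]
    have h1 : k * u * k⁻¹ ∈ S.U (k • c) ↔ u ∈ S.U c := FixBN.OfBN.smul_UU h
    rw [hk] at h1
    exact h1.symm
  have h2 : Even (Nat.card ↥t.cent) := even_cent' S ho hst htr hcθ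
  have : Fact (Nat.Prime 2) := ⟨Nat.prime_two⟩
  obtain ⟨g, hg⟩ := exists_prime_orderOf_dvd_card' 2 (even_iff_two_dvd.1 h2)
  refine ⟨g, by rw [Subgroup.orderOf_coe, hg], ?_⟩
  have h3 := t.mem_cent.1 g.2
  rwa [ht] at h3

end Cfsg.Agent.H388.EvenFix
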