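import Mathlib
import Cfsg.Agent.Lib.MinNormal

/-!
# Groups with the same prime graph: constructions

`Same G H` : the finite groups `G` and `H` have the same prime graph. `Adj G p q` : an element of order `p * q`.
`Clq G N` : any two distinct primes dividing the order of the subgroup `N` are joined in the prime graph of `G`.

* `exists_same_of_clq` : `N ≠ 1` normal in `G` with `Clq G N`: there is a group with the same prime graph, of larger
  order, having a normal `p`-subgroup `≠ 1` (the fibre product of `G` and `N_G(P)`, `P` a Sylow subgroup of `N`);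
* `unbounded_of_clq` : then the groups with the prime graph of `G` have unbounded orders;
* `exists_same_of_vertex` : the same if one vertex is joined to all the others;
* `exists_type_zero` : a finite group is isomorphic to one in `Type`.
-/

set_option autoImplicit false

namespace Cfsg.Agent.H388.PG

open Subgroup

universe u v w

/-- the prime graph: `p`, `q` are joined -/
def Adj (G : Type*) [Group G] (p q : ℕ) : Prop := ∃ g : G, orderOf g = p * q

/-- the same prime graph -/
def Same (G : Type u) (H : Type v) [Group G] [Group H] : Prop :=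
  (∀ p : ℕ, p.Prime → (p ∣ Nat.card G ↔ p ∣ Nat.card H)) ∧
    (∀ p q : ℕ, p.Prime → q.Prime → p ≠ q → ((∃ g : G, orderOf g = p * q) ↔ (∃ g : H, orderOf g = p * q)))

theorem Same.refl (G : Type*) [Group G] : Same G G := ⟨fun _ _ => Iff.rfl, fun _ _ _ _ _ => Iff.rfl⟩

theorem Same.symm {G : Type u} {H : Type v} [Group G] [Group H] (h : Same G H) : Same H G :=
  ⟨fun p hp => (h.1 p hp).symm, fun p q hp hq hpq => (h.2 p q hp hq hpq).symm⟩

theorem Same.trans {G : Type u} {H : Type v} {K : Type w} [Group G] [Group H] [Group K] (h : Same G H)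
    (h' : Same H K) : Same G K :=
  ⟨fun p hp => (h.1 p hp).trans (h'.1 p hp), fun p q hp hq hpq => (h.2 p q hp hq hpq).trans (h'.2 p q hp hq hpq)⟩

theorem Same.of_equiv {G : Type u} {H : Type v} [Group G] [Group H] (e : G ≃* H) : Same G H := by
  refine ⟨fun p _ => by rw [Nat.card_congr e.toEquiv], fun p q _ _ _ => ⟨?_, ?_⟩⟩
  · rintro ⟨g, hg⟩
    exact ⟨e g, by rw [MulEquiv.orderOf_eq, hg]⟩
  · rintro ⟨g, hg⟩
    exact ⟨e.symm g, by rw [MulEquiv.orderOf_eq, hg]⟩

/-- A finite group is isomorphic to one in `Type`. -/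
theorem exists_type_zero (G : Type u) [Group G] [Finite G] :
    ∃ (H : Type) (_ : Group H) (_ : Finite H), Nonempty (G ≃* H) := by
  have : Small.{0} G := Countable.toSmall G
  exact ⟨Shrink.{0} G, inferInstance, Finite.of_equiv G (equivShrink G),
    ⟨{ toEquiv := equivShrink G, map_mul' := fun x y => equivShrink_mul x y }⟩⟩

section Adj

variable {G : Type u} [Group G]

theorem adj_of_commute {p q : ℕ} (hp : p.Prime) (hq : q.Prime) (hpq : p ≠ q) {a b : G} (ha : orderOf a = p)
    (hb : orderOf b = q) (h : Commute a b) : Adj G p q :=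
  ⟨a * b, by rw [h.orderOf_mul_eq_mul_orderOf_of_coprime (by rw [ha, hb]; exact (Nat.coprime_primes hp hq).2 hpq),
    ha, hb]⟩

theorem Adj.exists_commute {p q : ℕ} (hp : p.Prime) (hq : q.Prime) (h : Adj G p q) :
    ∃ a b : G, orderOf a = p ∧ orderOf b = q ∧ Commute a b := by
  obtain ⟨g, hg⟩ := h
  refine ⟨g ^ q, g ^ p, ?_, ?_, (Commute.refl g).pow_pow _ _⟩
  · rw [orderOf_pow_of_dvd hq.ne_zero (by rw [hg]; exact Dvd.intro_left _ rfl), hg,
      Nat.mul_div_cancel _ hq.pos]
  · rw [orderOf_pow_of_dvd hp.ne_zero (by rw [hg]; exact Dvd.intro _ rfl), hg,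
      Nat.mul_div_cancel_left _ hp.pos]

theorem adj_of_dvd {n : ℕ} {g : G} (hn : n ≠ 0) (hfin : orderOf g ≠ 0) (h : n ∣ orderOf g) : ∃ x : G, orderOf x = n := by
  obtain ⟨k, hk⟩ := h
  refine ⟨g ^ k, ?_⟩
  have hk0 : k ≠ 0 := by rintro rfl; exact hfin (by rw [hk, mul_zero])
  rw [orderOf_pow_of_dvd hk0 (by rw [hk]; exact Dvd.intro_left _ rfl), hk, Nat.mul_div_cancel _ (Nat.pos_of_ne_zero hk0)]

/-- Adjacency in a quotient. -/
theorem adj_of_surjective [Finite G] {H : Type v} [Group H] (f : G →* H) (hf : Function.Surjective f) {p q : ℕ}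
    (hp : p.Prime) (hq : q.Prime) (h : Adj H p q) : Adj G p q := by
  obtain ⟨y, hy⟩ := h
  obtain ⟨x, rfl⟩ := hf y
  refine adj_of_dvd (mul_ne_zero hp.ne_zero hq.ne_zero) (orderOf_pos x).ne' ?_
  rw [← hy]
  exact orderOf_map_dvd f x

theorem adj_of_injective {H : Type v} [Group H] (f : H →* G) (hf : Function.Injective f) {p q : ℕ} (h : Adj H p q) :
    Adj G p q := by
  obtain ⟨y, hy⟩ := h
  exact ⟨f y, by rw [orderOf_injective f hf, hy]⟩

theorem Adj.symm {p q : ℕ} (h : Adj G p q) : Adj G q p := by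
  obtain ⟨g, hg⟩ := h
  exact ⟨g, by rw [hg, mul_comm]⟩

end Adj

/-- The primes dividing `|N|` are pairwise joined in the prime graph of `G`. -/
def Clq (G : Type u) [Group G] (N : Subgroup G) : Prop :=
  ∀ p q : ℕ, p.Prime → q.Prime → p ≠ q → p ∣ Nat.card N → q ∣ Nat.card N → Adj G p q

theorem clq_of_isPGroup {G : Type u} [Group G] [Finite G] {p : ℕ} [hp : Fact p.Prime] {N : Subgroup G}
    (h : IsPGroup p N) : Clq G N := by
  obtain ⟨n, hn⟩ := IsPGroup.iff_card.1 h
  intro r s hr hs hrs h1 h2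
  rw [hn] at h1 h2
  have h3 := (Nat.prime_dvd_prime_iff_eq hr hp.out).1 (hr.dvd_of_dvd_pow h1)
  have h4 := (Nat.prime_dvd_prime_iff_eq hs hp.out).1 (hs.dvd_of_dvd_pow h2)
  exact absurd (h3.trans h4.symm) hrs

section Fibre

variable {G : Type u} [Group G]

/-- The fibre product `L ×_{G/N} G`. -/
def fib (L N : Subgroup G) [hN : N.Normal] : Subgroup (G × G) where
  carrier := {x | x.1 ∈ L ∧ (x.1)⁻¹ * x.2 ∈ N}
  one_mem' := ⟨L.one_mem, by simp⟩
  mul_mem' := by
    rintro ⟨a, b⟩ ⟨c, d⟩ ⟨h1, h2⟩ ⟨h3, h4⟩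
    refine ⟨L.mul_mem h1 h3, ?_⟩
    change (a * c)⁻¹ * (b * d) ∈ N
    have h5 : (a * c)⁻¹ * (b * d) = c⁻¹ * (a⁻¹ * b) * c * (c⁻¹ * d) := by group
    rw [h5]
    refine N.mul_mem ?_ h4
    have h6 := hN.conj_mem _ h2 c⁻¹
    rwa [inv_inv] at h6
  inv_mem' := by
    rintro ⟨a, b⟩ ⟨h1, h2⟩
    refine ⟨L.inv_mem h1, ?_⟩
    change (a⁻¹)⁻¹ * b⁻¹ ∈ N
    have h5 : (a⁻¹)⁻¹ * b⁻¹ = a * (a⁻¹ * b)⁻¹ * a⁻¹ := by group
    rw [h5]
    exact hN.conj_mem _ (N.inv_mem h2) a

theorem mem_fib {L N : Subgroup G} [N.Normal] {x : G × G} : x ∈ fib L N ↔ x.1 ∈ L ∧ (x.1)⁻¹ * x.2 ∈ N := Iff.rfl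

variable {L N : Subgroup G} [hN : N.Normal]

theorem fib_snd_surjective (h : L ⊔ N = ⊤) :
    Function.Surjective ((MonoidHom.snd G G).comp (fib L N).subtype) := by
  intro g
  have hg : g ∈ L ⊔ N := by rw [h]; exact mem_top g
  obtain ⟨l, hl, n, hn, rfl⟩ := Subgroup.mem_sup_of_normal_right.1 hg
  exact ⟨⟨(l, l * n), hl, by simpa using hn⟩, rfl⟩

/-- The prime graph of the fibre product. -/
theorem same_fib [Finite G] (h : L ⊔ N = ⊤) (hc : Clq G N) : Same G ↥(fib L N) := by
  have hsurj := fib_snd_surjective (L := L) (N := N) h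
  constructor
  · intro p hp
    constructor
    · intro hd
      exact hd.trans (Subgroup.card_dvd_of_surjective _ hsurj)
    · intro hd
      have := Fact.mk hp
      obtain ⟨x, hx⟩ := exists_prime_orderOf_dvd_card' p hd
      have hx1 : x ≠ 1 := by rintro rfl; rw [orderOf_one] at hx; exact hp.one_lt.ne hx
      have key : ∀ y : G, y ^ p = 1 → y ≠ 1 → p ∣ Nat.card G := by
        intro y hy hy1
        have h1 : orderOf y = p := orderOf_eq_prime hy hy1
        rw [← h1]
        exact orderOf_dvd_natCard y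
      have hxp : x ^ p = 1 := by rw [← hx]; exact pow_orderOf_eq_one x
      by_cases h1 : x.1.1 = 1
      · refine key x.1.2 ?_ ?_
        · exact congrArg (fun y : ↥(fib L N) => y.1.2) hxp
        · intro h2
          exact hx1 (Subtype.ext (Prod.ext h1 h2))
      · exact key x.1.1 (congrArg (fun y : ↥(fib L N) => y.1.1) hxp) h1
  · intro p q hp hq hpq
    constructor
    · exact fun hd => adj_of_surjective _ hsurj hp hq hd
    · intro hd
      obtain ⟨a, b, ha, hb, hab⟩ := Adj.exists_commute hp hq hd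
      have hap : a ^ p = 1 := by rw [← ha]; exact pow_orderOf_eq_one a
      have hbq : b ^ q = 1 := by rw [← hb]; exact pow_orderOf_eq_one b
      have ha1 : a ≠ 1 := by rintro rfl; rw [orderOf_one] at ha; exact hp.one_lt.ne ha
      have hb1 : b ≠ 1 := by rintro rfl; rw [orderOf_one] at hb; exact hq.one_lt.ne hb
      have := Fact.mk hp
      have := Fact.mk hq
      have hap1 : a.1.1 ^ p = 1 := congrArg (fun y : ↥(fib L N) => y.1.1) hap
      have hap2 : a.1.2 ^ p = 1 := congrArg (fun y : ↥(fib L N) => y.1.2) hap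
      have hbq1 : b.1.1 ^ q = 1 := congrArg (fun y : ↥(fib L N) => y.1.1) hbq
      have hbq2 : b.1.2 ^ q = 1 := congrArg (fun y : ↥(fib L N) => y.1.2) hbq
      have hc1 : Commute a.1.1 b.1.1 := congrArg (fun y : ↥(fib L N) => y.1.1) hab
      have hc2 : Commute a.1.2 b.1.2 := congrArg (fun y : ↥(fib L N) => y.1.2) hab
      -- an element with one trivial coordinate lies in `N`
      have hN1 : ∀ x : ↥(fib L N), x.1.1 = 1 → x.1.2 ∈ N := by
        intro x hx
        have h1 := x.2.2
        rw [hx] at h1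
        simpa using h1
      have hN2 : ∀ x : ↥(fib L N), x.1.2 = 1 → x.1.1 ∈ N := by
        intro x hx
        have h1 := x.2.2
        rw [hx, mul_one] at h1
        exact inv_mem_iff.1 h1
      have hcard : ∀ (r : ℕ) [Fact r.Prime] (y : G), y ^ r = 1 → y ≠ 1 → y ∈ N → r ∣ Nat.card N := by
        intro r _ y hy hy1 hyN
        have h1 : orderOf (⟨y, hyN⟩ : N) = r := by
          rw [← Subgroup.orderOf_coe]
          exact orderOf_eq_prime hy hy1
        rw [← h1]
        exact orderOf_dvd_natCard _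
      by_cases h1 : a.1.1 = 1
      · have h2 : a.1.2 ≠ 1 := fun h2 => ha1 (Subtype.ext (Prod.ext h1 h2))
        by_cases h3 : b.1.2 = 1
        · have h4 : b.1.1 ≠ 1 := fun h4 => hb1 (Subtype.ext (Prod.ext h4 h3))
          exact hc p q hp hq hpq (hcard p _ hap2 h2 (hN1 a h1)) (hcard q _ hbq1 h4 (hN2 b h3))
        · exact adj_of_commute hp hq hpq (orderOf_eq_prime hap2 h2) (orderOf_eq_prime hbq2 h3) hc2
      · by_cases h3 : b.1.1 = 1
        · have h4 : b.1.2 ≠ 1 := fun h4 => hb1 (Subtype.ext (Prod.ext h3 h4))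
          by_cases h2 : a.1.2 = 1
          · exact hc p q hp hq hpq (hcard p _ hap1 h1 (hN2 a h2)) (hcard q _ hbq2 h4 (hN1 b h3))
          · exact adj_of_commute hp hq hpq (orderOf_eq_prime hap2 h2) (orderOf_eq_prime hbq2 h4) hc2
        · exact adj_of_commute hp hq hpq (orderOf_eq_prime hap1 h1) (orderOf_eq_prime hbq1 h3) hc1

end Fibre

/-- **The fibre product construction.** -/
theorem exists_same_of_clq {G : Type u} [Group G] [Finite G] {N : Subgroup G} (hN : N.Normal) (hN1 : N ≠ ⊥)
    (hc : Clq G N) : ∃ (H : Type u) (_ : Group H) (_ : Finite H), Same G H ∧ Nat.card G < Nat.card H ∧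
      ∃ (p : ℕ) (Q : Subgroup H), p.Prime ∧ Q.Normal ∧ Q ≠ ⊥ ∧ IsPGroup p Q := by
  have hcard : Nat.card N ≠ 1 := fun h => hN1 (Subgroup.card_eq_one.1 h)
  obtain ⟨p, hp, hpN⟩ := Nat.exists_prime_and_dvd hcard
  have := Fact.mk hp
  obtain ⟨P⟩ : Nonempty (Sylow p N) := inferInstance
  set P' : Subgroup G := (P : Subgroup N).map N.subtype with hP'
  have hPN : P' ≤ N := Subgroup.map_subtype_le _
  have hPp : IsPGroup p P' := P.isPGroup'.map _
  have hP1 : P' ≠ ⊥ := by
    intro h
    rw [hP', Subgroup.map_eq_bot_iff_of_injective _ N.subtype_injective] at h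
    have h1 := P.card_eq_multiplicity
    have h2 : Nat.card P = 1 := by
      change Nat.card (P : Subgroup N) = 1
      rw [h, Subgroup.card_bot]
    rw [h2] at h1
    have h3 : (Nat.card N).factorization p ≠ 0 := by
      rw [← Nat.pos_iff_ne_zero]
      exact hp.factorization_pos_of_dvd Nat.card_pos.ne' hpN
    exact (Nat.one_lt_pow h3 hp.one_lt).ne h1
  set L := normalizer (P' : Set G) with hL
  have hLN : L ⊔ N = ⊤ := Sylow.normalizer_sup_eq_top P
  have hS := same_fib (L := L) (N := N) hLN hc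
  -- the normal `p`-subgroup
  let ι : P' →* ↥(fib L N) :=
    { toFun := fun x => ⟨((x : G), 1), by
        refine ⟨le_normalizer x.2, ?_⟩
        change (x : G)⁻¹ * 1 ∈ N
        rw [mul_one]
        exact N.inv_mem (hPN x.2)⟩
      map_one' := rfl
      map_mul' := fun x y => Subtype.ext (Prod.ext rfl (one_mul 1).symm) }
  have hι : Function.Injective ι := fun x y h =>
    Subtype.ext (congrArg (fun z : ↥(fib L N) => z.1.1) h)
  refine ⟨↥(fib L N), inferInstance, inferInstance, hS, ?_, p, ι.range, hp, ?_, ?_, ?_⟩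
  · -- the order
    set π := (MonoidHom.snd G G).comp (fib L N).subtype with hπ
    have hsurj : Function.Surjective π := fib_snd_surjective hLN
    have h1 : Nat.card ↥(fib L N) = Nat.card π.ker * Nat.card G := by
      rw [← π.ker.card_mul_index, Subgroup.index_ker, MonoidHom.range_eq_top.2 hsurj, Subgroup.card_top]
    have h2 : ι.range ≤ π.ker := by
      rintro _ ⟨x, rfl⟩
      exact rfl
    have h3 : 1 < Nat.card ι.range := by
      rw [← Nat.card_congr (MonoidHom.ofInjective hι).toEquiv]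
      exact (Subgroup.one_lt_card_iff_ne_bot _).2 hP1
    have h4 : 1 < Nat.card π.ker := lt_of_lt_of_le h3 (Subgroup.card_le_of_le h2)
    rw [h1]
    exact lt_mul_of_one_lt_left Nat.card_pos h4
  · constructor
    rintro _ ⟨x, rfl⟩ g
    have h1 : g.1.1 ∈ normalizer (P' : Set G) := g.2.1
    refine ⟨⟨g.1.1 * x * (g.1.1)⁻¹, (mem_normalizer_iff.1 h1 _).1 x.2⟩, ?_⟩
    refine Subtype.ext (Prod.ext rfl ?_)
    change 1 = g.1.2 * 1 * (g.1.2)⁻¹
    rw [mul_one, mul_inv_cancel]
  · intro h
    apply hP1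
    rw [eq_bot_iff]
    intro x hx
    have h1 : ι ⟨x, hx⟩ ∈ ι.range := ⟨_, rfl⟩
    rw [h, mem_bot] at h1
    have h2 := congrArg (fun z : ↥(fib L N) => z.1.1) h1
    exact mem_bot.2 h2
  · exact hPp.of_surjective ι.rangeRestrict ι.rangeRestrict_surjective

/-- The groups with the prime graph of `G` have unbounded orders. -/
def Unb (G : Type u) [Group G] : Prop := ∀ n : ℕ, ∃ (H : Type) (_ : Group H) (_ : Finite H), n < Nat.card H ∧ Same G H

/-- **Unboundedness from a normal subgroup whose primes form a clique.** -/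
theorem unbounded_of_clq {G : Type u} [Group G] [Finite G] {N : Subgroup G} (hN : N.Normal) (hN1 : N ≠ ⊥)
    (hc : Clq G N) : Unb G := by
  have key : ∀ n : ℕ, ∃ (H : Type u) (_ : Group H) (_ : Finite H), Same G H ∧ n < Nat.card H ∧
      ∃ (p : ℕ) (Q : Subgroup H), p.Prime ∧ Q.Normal ∧ Q ≠ ⊥ ∧ IsPGroup p Q := by
    intro n
    induction n with
    | zero =>
      obtain ⟨H, i1, i2, h1, h2, h3⟩ := exists_same_of_clq hN hN1 hc
      exact ⟨H, i1, i2, h1, Nat.card_pos, h3⟩
    | succ n ih =>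
      obtain ⟨H, i1, i2, h1, h2, p, Q, hp, hQ, hQ1, hQp⟩ := ih
      have := Fact.mk hp
      obtain ⟨K, j1, j2, h3, h4, h5⟩ := exists_same_of_clq hQ hQ1 (clq_of_isPGroup hQp)
      exact ⟨K, j1, j2, h1.trans h3, by omega, h5⟩
  intro n
  obtain ⟨H, i1, i2, h1, h2, -⟩ := key n
  obtain ⟨K, j1, j2, ⟨e⟩⟩ := exists_type_zero H
  exact ⟨K, j1, j2, by rwa [← Nat.card_congr e.toEquiv], h1.trans (Same.of_equiv e)⟩

theorem Unb.congr {G : Type u} {H : Type v} [Group G] [Group H] (h : Same G H) (hG : Unb G) : Unb H := by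
  intro n
  obtain ⟨K, i1, i2, h1, h2⟩ := hG n
  exact ⟨K, i1, i2, h1, h.symm.trans h2⟩

/-- A vertex joined to all the others. -/
theorem same_prod {G : Type u} [Group G] [Finite G] {p : ℕ} (hp : p.Prime) (hpG : p ∣ Nat.card G)
    (h : ∀ q : ℕ, q.Prime → q ∣ Nat.card G → q ≠ p → Adj G p q) : Same G (Multiplicative (ZMod p) × G) := by
  have : Fact p.Prime := ⟨hp⟩
  have hcz : Nat.card (Multiplicative (ZMod p)) = p := by
    rw [Nat.card_congr Multiplicative.toAdd, Nat.card_zmod]
  constructor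
  · intro q hq
    rw [Nat.card_prod, hcz]
    refine ⟨fun h => h.mul_left _, fun h => ?_⟩
    rcases (hq.dvd_mul).1 h with h | h
    · rw [(Nat.prime_dvd_prime_iff_eq hq hp).1 h]; exact hpG
    · exact h
  · intro q r hq hr hqr
    constructor
    · rintro ⟨g, hg⟩
      refine ⟨(1, g), ?_⟩
      rw [Prod.orderOf, orderOf_one, hg, Nat.lcm_one_left]
    · intro hd
      obtain ⟨a, b, ha, hb, hab⟩ := Adj.exists_commute hq hr hd
      have := Fact.mk hq
      have := Fact.mk hr
      have haq : a ^ q = 1 := by rw [← ha]; exact pow_orderOf_eq_one a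
      have hbr : b ^ r = 1 := by rw [← hb]; exact pow_orderOf_eq_one b
      have ha1 : a ≠ 1 := by rintro rfl; rw [orderOf_one] at ha; exact hq.one_lt.ne ha
      have hb1 : b ≠ 1 := by rintro rfl; rw [orderOf_one] at hb; exact hr.one_lt.ne hb
      have key : ∀ (s : ℕ), s.Prime → s ≠ p → ∀ x : Multiplicative (ZMod p), x ^ s = 1 → x = 1 := by
        intro s hs hsp x hx
        have h1 : orderOf x ∣ s := orderOf_dvd_of_pow_eq_one hx
        have h2 : orderOf x ∣ p := by
          have := orderOf_dvd_natCard x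
          rwa [hcz] at this
        have h3 : orderOf x ∣ 1 := by
          have := Nat.dvd_gcd h1 h2
          rwa [(Nat.coprime_primes hs hp).2 hsp] at this
        exact orderOf_eq_one_iff.1 (Nat.dvd_one.1 h3)
      have hc2 : Commute a.2 b.2 := congrArg Prod.snd hab
      have ha2 : a.2 ^ q = 1 := congrArg Prod.snd haq
      have hb2 : b.2 ^ r = 1 := congrArg Prod.snd hbr
      by_cases hqp : q = p
      · subst hqp
        have h1 := key r hr (fun h => hqr h.symm) b.1 (congrArg Prod.fst hbr)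
        have h2 : b.2 ≠ 1 := fun h2 => hb1 (Prod.ext h1 h2)
        refine h r hr ?_ (fun h => hqr h.symm)
        have h3 : orderOf b.2 = r := orderOf_eq_prime hb2 h2
        rw [← h3]
        exact orderOf_dvd_natCard _
      · have h1 := key q hq hqp a.1 (congrArg Prod.fst haq)
        have h2 : a.2 ≠ 1 := fun h2 => ha1 (Prod.ext h1 h2)
        have h3 : orderOf a.2 = q := orderOf_eq_prime ha2 h2
        by_cases hrp : r = p
        · subst hrp
          refine Adj.symm (h q hq ?_ hqp)
          rw [← h3]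
          exact orderOf_dvd_natCard _
        · have h4 := key r hr hrp b.1 (congrArg Prod.fst hbr)
          have h5 : b.2 ≠ 1 := fun h5 => hb1 (Prod.ext h4 h5)
          exact adj_of_commute hq hr hqr h3 (orderOf_eq_prime hb2 h5) hc2

theorem unbounded_of_vertex {G : Type u} [Group G] [Finite G] {p : ℕ} (hp : p.Prime) (hpG : p ∣ Nat.card G)
    (h : ∀ q : ℕ, q.Prime → q ∣ Nat.card G → q ≠ p → Adj G p q) : Unb G := by
  have : Fact p.Prime := ⟨hp⟩
  have hS := same_prod hp hpG h
  set N : Subgroup (Multiplicative (ZMod p) × G) := (⊤ : Subgroup (Multiplicative (ZMod p))).prod ⊥ with hN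
  have hcz : Nat.card (Multiplicative (ZMod p)) = p := by
    rw [Nat.card_congr Multiplicative.toAdd, Nat.card_zmod]
  have hcN : Nat.card N = p := by
    rw [hN, Nat.card_congr (Subgroup.prodEquiv _ _).toEquiv, Nat.card_prod, Subgroup.card_top, Subgroup.card_bot,
      mul_one, hcz]
  have h1 : N.Normal := Subgroup.prod_normal _ _
  have h2 : N ≠ ⊥ := by
    intro h
    rw [h, Subgroup.card_bot] at hcN
    exact hp.one_lt.ne hcN
  have h3 : IsPGroup p N := IsPGroup.of_card (n := 1) (by rw [hcN, pow_one])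
  exact (unbounded_of_clq h1 h2 (clq_of_isPGroup h3)).congr hS.symm

end Cfsg.Agent.H388.PG
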